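import Cfsg.Agent.Lib.Der.VM
import Cfsg.Agent.Lib.Cop.Big

/-! Fields with more than two elements do not occur. -/

set_option autoImplicit false
set_option linter.unusedSectionVars false

namespace CfsgLib.Der

open Subgroup Cfsg CfsgLib.LAE CfsgLib.Push CfsgLib.Blocks CfsgLib.ZJ CfsgLib.OFP CfsgLib.Cop
open scoped commutatorElement

universe u

variable {Γ : Type u} [Group Γ] [Finite Γ] {A S V V' B M H Z : Subgroup Γ}

theorem bigE_false (h : BigE B H Z) (v : VV A S V) (v' : VM A M V V') (pS : IsPGroup 2 S) (BS : B ≤ S)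
    (ZV : Z ≤ V) (sM : Group.IsSolvable M) (AM : A ≤ 𝒩[M]) (MV : M ≤ 𝒩[V])
    (hm : ∀ Q ≤ B, (¬ ∀ n ∈ H, n ∈ 𝒩[Q] → ∃ c ∈ 𝒞[Q], ∃ m ∈ M, n = c * m) →
      ∀ T ≤ S, B ≤ T → T ≤ 𝒩[Q] → bau 2 T = B)
    (ext : ∀ n ∈ H, n ∈ 𝒩[B] → ∃ c ∈ 𝒞[B], ∃ m ∈ M, n = c * m) : False := by
  obtain ⟨F, _, _, _, Q, K, u, f, z, ψ, l, hq, hK, hz, h⟩ := h
  have zV := ZV hz
  have hV := vv_le_omegaZ v pS BS h.QB h.uQ h.uC h.uu h.key (h.BK.trans h.KQ)
    (hm Q h.QB fun H' => h.bad sM fun n hn => H' n (hK hn) (h.KQ hn))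
  obtain ⟨c, hc, m, hm, e⟩ := ext f (hK h.fK) h.fB
  have k : ∀ x ∈ V, m * x * m⁻¹ = f * x * f⁻¹ := fun x hx => by
    have := hc _ (omegaZ_le B (hV (LAE.conj_mem_of_mem_normalizer (MV hm) hx)))
    rw [e, show c * m * x * (c * m)⁻¹ = c * (m * x * m⁻¹) * c⁻¹ by group, ← this, mul_inv_cancel_right]
  have fx : ∀ x ∈ V, ψ x = 0 → Commute m x := fun x hx h0 => mul_inv_eq_iff_eq_mul.1 (by
    rw [k x hx, (h.fix x (hV hx) h0).eq, mul_inv_cancel_right])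
  obtain ⟨z', zV', nz⟩ : ∃ z' ∈ V', ψ z' ≠ 0 := by
    by_contra hn
    push Not at hn
    have h1 := v'.cen m hm fun x hx => (fx x (v'.le hx) (hn x hx)).eq.symm
    have h2 := h.act z (hV zV)
    rw [← k z zV, ← h1 z zV, mul_inv_cancel_right] at h2
    have h3 : l = 1 := Units.ext (mul_right_cancel₀ h.nz (by rw [← h2, Units.val_one, one_mul]))
    have h4 : Nat.card Fˣ = 1 := Nat.card_eq_one_iff_unique.2 ⟨⟨fun a b => by
      have ha := h.gen a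
      have hb := h.gen b
      rw [h3, zpowers_one_eq_bot, mem_bot] at ha hb
      rw [ha, hb]⟩, ⟨1⟩⟩
    classical
    rw [Nat.card_eq_fintype_card, Fintype.card_units] at h4
    omega
  obtain ⟨t, ht, t1, H⟩ := singer hq (fun x hx => v.sq x (v'.le hx))
    (fun a ha b hb => MinS.M1.comm_of_sq v.sq (v'.le ha) (v'.le hb)) v'.MV hm h.gen
    (fun x hx y hy => h.add x (hV (v'.le hx)) y (hV (v'.le hy)))
    (fun x hx => by rw [k x (v'.le hx), h.act x (hV (v'.le hx))]) (fun x hx => fx x (v'.le hx)) zV' nz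
  exact t1 (v'.inv t ht fun a ha => H a (AM ha) (v'.AV ha))

end CfsgLib.Der
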