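import Cfsg.Agent.Lib.Der.Comp

/-! The reduction to the frame. -/

set_option autoImplicit false
set_option linter.unusedSectionVars false

open Subgroup Cfsg CfsgLib.LAE CfsgLib.ZN CfsgLib.MinS CfsgLib.Cop Module
open scoped commutatorElement

universe u

namespace CfsgLib.Der

/-- The frame has no model. -/
def Box : Prop :=
  ∀ (X : Type u) [Group X] [Finite X] (A G S : Subgroup X), FD A G S → False

section

variable {X : Type u} [Group X] {A B G H : Subgroup X}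

theorem Dr.cls_change (h : Dr A G) (hH : H ≤ G) (hB : Spl A G B) : Dr B H := fun Y hY x hx hg => by
  obtain ⟨y, hy, e⟩ := h Y (fun a ha => by
    obtain ⟨g, hg, hb⟩ := hB a ha
    obtain ⟨k, hk, e⟩ := hY _ hb
    exact ⟨g * k, mul_mem hg (hH hk), by rwa [mul_inv_rev, mul_assoc]⟩) x hx (hH hg)
  exact ⟨y, hy, centralizer_le hH e⟩

theorem Dr.cls_map (h : Dr A G) {Z : Type*} [Group Z] (f : X →* Z) : Dr (A.map f) (G.map f) := by
  rintro Y hY _ hx ⟨x, hg, rfl⟩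
  obtain ⟨y, hy, e⟩ := h (Y.comap f) (fun a ha => by
    obtain ⟨_, ⟨g, hg, rfl⟩, e⟩ := hY _ (mem_map_of_mem f ha)
    exact ⟨g, hg, by rwa [mem_comap, map_mul, map_inv]⟩) x hx hg
  refine ⟨f y, commutator_mono (map_comap_le f Y) (map_comap_le f Y)
    (Subgroup.map_commutator _ _ f ▸ mem_map_of_mem f hy), ?_⟩
  rintro _ ⟨g, hg, rfl⟩
  rw [← map_inv, ← map_mul, ← map_mul, ← map_mul, e g hg]

theorem Dr.cls_sub (h : Dr A G) {M : Subgroup X} (hA : A ≤ M) : Dr (A.subgroupOf M) (G.subgroupOf M) := by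
  intro Y hY x hx hg
  obtain ⟨y, hy, e⟩ := h (Y.map M.subtype) (fun a ha => by
    obtain ⟨g, hg, e⟩ := hY ⟨a, hA ha⟩ ha
    exact ⟨g, hg, _, e, rfl⟩) x ⟨x, hx, rfl⟩ hg
  rw [← Subgroup.map_commutator] at hy
  obtain ⟨y, hy, rfl⟩ := hy
  exact ⟨y, hy, fun g hg => Subtype.ext (e g hg)⟩

end

/-- The class of the reduction. -/
def ClsP (n : ℕ) (X : Type u) [Group X] (A G : Subgroup X) : Prop :=
  A ≤ normalizer (G : Set X) ∧ Dr A G ∧ Nat.card G ≤ n

theorem cls_P (n : ℕ) : FPD.Cls (ClsP.{u} n) where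
  norm _ _ _ _ _ h := h.1
  mono _ _ _ _ _ _ h h1 h2 := ⟨h2, h.2.1.cls_change h1 (Spl.self _ _), (card_le_of_le h1).trans h.2.2⟩
  map _ _ _ _ G _ _ _ f h _ := ⟨FPD.map_norm f h.1, h.2.1.cls_map f,
    (Nat.le_of_dvd Nat.card_pos (card_map_dvd G f)).trans h.2.2⟩
  sub _ _ _ _ _ _ h h1 h2 := ⟨FPD.sub_norm h.1, h.2.1.cls_sub h1,
    (Core.card_subgroupOf_of_le h2).le.trans h.2.2⟩
  comp _ _ _ _ _ _ h _ h1 _ hL := ⟨inf_le_right, h.2.1.comp h1 (fun x hx =>
      commutator_eq_bot_iff_le_centralizer.1 (Comp.comp_commutator_eq_bot_of_ne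
        (Comp.comp_map_equiv hL (MulAut.conj x)) hL fun e => hx (mem_normalizer_iff_conjS.2 e))),
      (card_le_of_le h1).trans h.2.2⟩

theorem cls_aux (box : Box.{u}) (n : ℕ) : ∀ (X : Type u) [Group X] [Finite X] (A G : Subgroup X),
    ClsP n X A G → Group.IsSolvable G := by
  induction n using Nat.strong_induction_on with
  | _ n ih =>
  refine fun X _ _ A G h => (cls_P n).red (fun Y _ _ A G s h => ?_) h
  have := s.nrm
  obtain ⟨S, hS⟩ := exists_isSylowIn 2 G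
  have hF : ∀ a, ∃ g ∈ G, g⁻¹ * a ∈ normalizer (S : Set Y) := fun a => by
    obtain ⟨g, hg, y, hy, rfl⟩ := hS.frattini (x := a) (le_normalizer_of_normal (mem_top a))
    exact ⟨g, hg, by simpa using hy⟩
  have h1 : Dr (normalizer (S : Set Y)) G := h.2.1.cls_change le_rfl fun a _ => hF a
  refine box Y (normalizer (S : Set Y)) G S ⟨⟨this, eq_top_iff.2 fun a _ => ?_, s.cent, s.simple, s.nc,
    fun H k1 k2 k3 => ?_⟩, h1.ds s.cent, hS, le_rfl, le_normalizer⟩
  · obtain ⟨g, hg, e⟩ := hF a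
    rw [show a = g * (g⁻¹ * a) by group]
    exact mul_mem_sup hg e
  · exact ih _ ((Core.card_lt_of_lt (k1.lt_of_ne k2)).trans_le h.2.2) Y _ H
      ⟨k3, h.2.1.cls_change k1 fun a _ => hF a, le_rfl⟩

/-- PROOF: copy `Cop.PI`, `Cop.cls_PI`, `Cop.solv_aux` (Lib/Cop/Inv.lean) with `Dr` for `InvA`.
change (H ≤ G, `Spl A G B` ⊢ Dr B H): Spl B H Y gives Spl A G Y, C(G) ≤ C(H).  map f: use Y.comap f,
`map_commutator`.  sub: use Y.map M.subtype.  comp: `Dr.comp`.  In the simple case take A' = N(S) (Frattini),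
`Dr.ds` with `s.cent`; `SA` is `le_normalizer`. -/
theorem solv_of_dr (box : Box.{u}) {X : Type u} [Group X] [Finite X] {A G : Subgroup X}
    (hA : A ≤ normalizer (G : Set X)) (h : Dr A G) : Group.IsSolvable G := by
  exact cls_aux box _ X A G ⟨hA, h, le_rfl⟩

end CfsgLib.Der
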