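import Cfsg.Agent.Lib.Der.Tr
import Cfsg.Agent.Lib.Cop.Inv

/-! The class `Dr` passes to components. -/

set_option autoImplicit false
set_option linter.unusedSectionVars false

open Subgroup Cfsg CfsgLib.LAE CfsgLib.ZN CfsgLib.MinS CfsgLib.Cop Module
open scoped commutatorElement Pointwise

universe u

namespace CfsgLib.Der

variable {X : Type u} [Group X] [Finite X] {A G L : Subgroup X}

/-- PROOF (skeleton = `Cop.InvA.comp` in Lib/Cop/Inv.lean; reuse `Cop.crt`, ι, r, hr, h5 verbatim).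
Given Y₁ with `Spl (A ⊓ N L) L Y₁`, x ∈ Y₁ ∩ L.  Y₂ = Y₁ ⊓ N(L), C = C_X(L), P = Y₂ ⊔ C (≤ N(L), elements y c),
K = ⁅Y₂,Y₂⁆ ⊔ C (elements y c; `⁅P,P⁆ ≤ K ≤ P`).  T = {t | ∃ i, (r i)⁻¹ t ∈ P}, Y = {y | ∀ t, t ∈ T ↔ y t ∈ T} (subgroup;
by finiteness `∀ t ∈ T, y t ∈ T` suffices, or prove both directions).  `Spl A G Y`: for a ∈ A choose l i ∈ L with
(l i)⁻¹ (r i)⁻¹ a r(a⁻¹•i) ∈ Y₁ (so ∈ Y₂), g from `crt`; then (g⁻¹a)⁻¹ T ⊆ T as in h6.  r₁ = r ⟦1⟧ ∈ N(L),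
x' = r₁ x r₁⁻¹ ∈ G ∩ Y ((r i)⁻¹ x' r i is x ∈ P for i = ⟦1⟧ and ∈ C otherwise, hr).  `h` gives y ∈ ⁅Y,Y⁆ with
c = y⁻¹ x' ∈ C(G) (normal in X, ≤ C).  `tr` with b = y = x' c⁻¹, P' = conjS r₁ P, K' = conjS r₁ K: for g ∈ Y,
g r₁ = r j p with p ∈ P; j = ⟦1⟧ gives g ∈ P', else r₁⁻¹ g⁻¹ y g r₁ = p⁻¹ ((r j)⁻¹ x' c⁻¹ r j) p ∈ C.
So r₁⁻¹ y r₁ ∈ K, x ∈ K, x = y₀ c₀ with y₀ ∈ ⁅Y₂,Y₂⁆ ≤ ⁅Y₁,Y₁⁆. -/
theorem Dr.comp [G.Normal] (h : Dr A G) (hL : L ≤ G)
    (hc : ∀ x, x ∉ normalizer (L : Set X) → conjS x L ≤ centralizer (L : Set X)) :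
    Dr (A ⊓ normalizer (L : Set X)) L := by
  classical
  intro Y₁ hY x hx hxL
  set C := centralizer (L : Set X) with hC
  set Y₂ := Y₁ ⊓ normalizer (L : Set X) with hY₂
  have nC : normalizer (L : Set X) ≤ normalizer (C : Set X) := le_normalizer_centralizer le_rfl
  have dY : ⁅Y₂, Y₂⁆ ≤ Y₂ := commutator_le.2 fun a ha b hb => by
    rw [commutatorElement_def]; exact mul_mem (mul_mem (mul_mem ha hb) (inv_mem ha)) (inv_mem hb)
  have PN : C ⊔ Y₂ ≤ normalizer (C : Set X) := sup_le le_normalizer (inf_le_right.trans nC)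
  have xP : x ∈ C ⊔ Y₂ := mem_sup_right ⟨hx, le_normalizer hxL⟩
  let ι := A ⧸ (normalizer (L : Set X)).subgroupOf A
  obtain ⟨ρ, hρ, ρ1⟩ : ∃ ρ : ι → A, (∀ i, QuotientGroup.mk (ρ i) = i) ∧ ρ (QuotientGroup.mk 1) = 1 :=
    ⟨Function.update Quotient.out (QuotientGroup.mk 1) 1, fun i => by
      by_cases e : i = QuotientGroup.mk 1
      · rw [e, Function.update_self]
      · rw [Function.update_of_ne e, QuotientGroup.out_eq'], Function.update_self ..⟩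
  let r : ι → X := fun i => ρ i
  have r1 : r (QuotientGroup.mk 1) = 1 := congrArg Subtype.val ρ1
  have hr : ∀ i j : ι, i ≠ j → ∀ l ∈ L, (r i)⁻¹ * (r j * l * (r j)⁻¹) * r i ∈ C := fun i j e l hl => by
    have := hc ((r i)⁻¹ * r j) (fun k => e (by
      rw [← hρ i, ← hρ j]; exact QuotientGroup.eq.2 k)) (conj_mem_conjS.2 hl)
    convert this using 1; group
  have xr : ∀ i : ι, i ≠ QuotientGroup.mk 1 → (r i)⁻¹ * x * r i ∈ C := fun i e => by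
    have := hr i _ e x hxL
    rwa [r1, one_mul, inv_one, mul_one] at this
  let T : Set X := {t | ∃ i, (r i)⁻¹ * t ∈ C ⊔ Y₂}
  let Y : Subgroup X := MulAction.stabilizer X T
  have mY : ∀ {y}, y ∈ Y ↔ ∀ t ∈ T, y * t ∈ T := fun {y} =>
    (MulAction.mem_stabilizer_set_iff_smul_set_subset (Set.toFinite T)).trans Set.smul_set_subset_iff
  obtain ⟨y, hy, e⟩ := h Y (fun a ha => by
    have h5 : ∀ i : ι, (r i)⁻¹ * a * r ((⟨a, ha⟩ : A)⁻¹ • i) ∈ A ⊓ normalizer (L : Set X) :=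
      fun i => ⟨A.mul_mem (A.mul_mem (A.inv_mem (ρ i).2) ha) (ρ _).2, by
        have e : (QuotientGroup.mk (ρ i) : ι) = QuotientGroup.mk (⟨a, ha⟩ * ρ ((⟨a, ha⟩ : A)⁻¹ • i)) := by
          rw [← smul_eq_mul, ← MulAction.Quotient.smul_mk, hρ, hρ, smul_inv_smul]
        have := QuotientGroup.eq.1 e
        rwa [mem_subgroupOf, ← mul_assoc] at this⟩
    choose l hl hl' using fun i => hY _ (h5 i)
    obtain ⟨g, hg, hg'⟩ := crt hL r hr l hl
    refine ⟨g, hg, inv_mem_iff.1 (mY.2 ?_)⟩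
    rintro t ⟨i, hi⟩
    have h7 : (l i)⁻¹ * ((r i)⁻¹ * a * r ((⟨a, ha⟩ : A)⁻¹ • i)) ∈ C ⊔ Y₂ :=
      mem_sup_right (mem_inf.2 ⟨hl' i, mul_mem (inv_mem (le_normalizer (hl i))) (h5 i).2⟩)
    have := mul_mem (mul_mem (inv_mem h7) (mem_sup_left (hg' i).2 : _ ∈ C ⊔ Y₂)) hi
    exact ⟨(⟨a, ha⟩ : A)⁻¹ • i, by convert this using 1; group⟩) x (mY.2 (by
      rintro t ⟨i, hi⟩
      refine ⟨i, ?_⟩
      rw [show (r i)⁻¹ * (x * t) = (r i)⁻¹ * x * r i * ((r i)⁻¹ * t) by group]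
      refine mul_mem ?_ hi
      by_cases e : i = QuotientGroup.mk 1
      · rwa [e, r1, inv_one, one_mul, mul_one]
      · exact mem_sup_left (xr i e))) (hL hxL)
  have cC : ∀ g, g⁻¹ * (y⁻¹ * x) * g ∈ C := fun g => centralizer_anti hL (Normal.conj_mem' inferInstance _ e g)
  have e' : y⁻¹ * x ∈ C := centralizer_anti hL e
  have key : y ∈ C ⊔ ⁅Y₂, Y₂⁆ := tr (P := C ⊔ Y₂) hy
    (by rw [show y = x * (y⁻¹ * x)⁻¹ by group]; exact mul_mem xP (inv_mem (mem_sup_left e')))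
    (commutator_le.2 fun a ha b hb => by
      obtain ⟨c, hc, u, hu, rfl⟩ := (mem_sup_iff_of_right_le_normalizer (inf_le_right.trans nC)).1 ha
      obtain ⟨d, hd, v, hv, rfl⟩ := (mem_sup_iff_of_right_le_normalizer (inf_le_right.trans nC)).1 hb
      rw [show ⁅c * u, d * v⁆ = c * (u * d * u⁻¹) * ⁅u, v⁆ * (v * c⁻¹ * v⁻¹ * d⁻¹) by
        simp only [commutatorElement_def]; group]
      exact mul_mem (mul_mem (mem_sup_left (mul_mem hc (conj_mem_of_mem_normalizer (nC hu.2) hd)))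
        (mem_sup_right (commutator_mem_commutator hu hv)))
        (mem_sup_left (mul_mem (conj_mem_of_mem_normalizer (nC hv.2) (inv_mem hc)) (inv_mem hd))))
    (sup_le_sup_left dY _) fun g hg gP => by
      obtain ⟨j, hj⟩ := mY.1 hg 1 ⟨QuotientGroup.mk 1, by rw [r1, inv_one, one_mul]; exact one_mem _⟩
      rw [mul_one] at hj
      have := conj_inv_mem_of_mem_normalizer (PN hj) (mul_mem (xr j fun e => gP (by
        rwa [e, r1, inv_one, one_mul] at hj)) (inv_mem (cC (r j))))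
      exact mem_sup_left (by convert this using 1; group)
  obtain ⟨c, hc, u, hu, rfl⟩ := (mem_sup_iff_of_right_le_normalizer ((dY.trans inf_le_right).trans nC)).1 key
  refine ⟨u, commutator_mono inf_le_left inf_le_left hu, ?_⟩
  have := mul_mem (conj_inv_mem_of_mem_normalizer (nC (dY hu).2) hc) e'
  convert this using 1; group

end CfsgLib.Der
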