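import Cfsg.Agent.Lib.Cop.S1Defs
import Cfsg.Agent.Lib.FPD.Red

/-!
Groups all of whose supplements meet the normal subgroup inside their derived subgroup: definitions.
-/

set_option autoImplicit false

open Subgroup Cfsg CfsgLib.LAE CfsgLib.Cop
open scoped commutatorElement

universe u

namespace CfsgLib.Der

variable {X : Type u} [Group X]

/-- `A ⊆ G Y`. -/
def Spl (A G Y : Subgroup X) : Prop := ∀ a ∈ A, ∃ g ∈ G, g⁻¹ * a ∈ Y

/-- `Y ∩ G ≤ Y' C(G)` for every supplement `Y`. -/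
def Dr (A G : Subgroup X) : Prop :=
  ∀ Y : Subgroup X, Spl A G Y → ∀ h ∈ Y, h ∈ G → ∃ y ∈ ⁅Y, Y⁆, y⁻¹ * h ∈ centralizer (G : Set X)

/-- `Y ∩ G ≤ Y'` for every supplement `Y`. -/
def DS (A G : Subgroup X) : Prop :=
  ∀ Y : Subgroup X, Spl A G Y → ∀ h ∈ Y, h ∈ G → h ∈ ⁅Y, Y⁆

/-- Supplements are self-normalizing in `G`. -/
def SN (A G : Subgroup X) : Prop :=
  ∀ Y : Subgroup X, Spl A G Y → ∀ h ∈ G, h ∈ normalizer (Y : Set X) → h ∈ Y

/-- The minimal counterexample. -/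
structure FD (A G S : Subgroup X) : Prop extends FPD.Simp A G where
  ds : DS A G
  syl : IsSylowIn 2 S G
  AS : A ≤ normalizer (S : Set X)
  SA : S ≤ A

variable {A G Y Y' : Subgroup X}

theorem Spl.self (A G : Subgroup X) : Spl A G A := fun a ha => ⟨1, one_mem _, by simpa using ha⟩

theorem Spl.mono (h : Spl A G Y) (hY : Y ≤ Y') : Spl A G Y' := fun a ha =>
  let ⟨g, hg, e⟩ := h a ha
  ⟨g, hg, hY e⟩

theorem DS.dr (h : DS A G) : Dr A G := fun Y hY x hx hg => ⟨x, h Y hY x hx hg, by simp⟩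

theorem Dr.ds (h : Dr A G) (hc : centralizer (G : Set X) = ⊥) : DS A G := fun Y hY x hx hg => by
  obtain ⟨y, hy, e⟩ := h Y hY x hx hg
  rw [hc, mem_bot, inv_mul_eq_one] at e
  exact e ▸ hy

theorem DS.sn (h : DS A G) : SN A G := fun Y hY x hx hn => by
  have h1 : Y ⊔ zpowers x ≤ normalizer (Y : Set X) := sup_le le_normalizer (zpowers_le.2 hn)
  have h2 := h _ (hY.mono (le_sup_left : Y ≤ Y ⊔ zpowers x)) x (mem_sup_right (mem_zpowers x)) hx
  refine (commutator_le.2 fun a ha b hb => ?_ : ⁅Y ⊔ zpowers x, Y ⊔ zpowers x⁆ ≤ Y) h2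
  obtain ⟨y, hy, _, ⟨m, rfl⟩, rfl⟩ := (mem_sup_iff_of_right_le_normalizer (zpowers_le.2 hn)).1 ha
  obtain ⟨z, hz, _, ⟨n, rfl⟩, rfl⟩ := (mem_sup_iff_of_right_le_normalizer (zpowers_le.2 hn)).1 hb
  have e : ⁅y * x ^ m, z * x ^ n⁆ = y * (x ^ m * z * (x ^ m)⁻¹) * (x ^ n * y⁻¹ * (x ^ n)⁻¹) * z⁻¹ := by
    simp only [commutatorElement_def]; group
  change ⁅y * x ^ m, z * x ^ n⁆ ∈ Y
  rw [e]
  exact mul_mem (mul_mem (mul_mem hy (conj_mem_of_mem_normalizer (zpow_mem hn m) hz))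
    (conj_mem_of_mem_normalizer (zpow_mem hn n) (inv_mem hy))) (inv_mem hz)

theorem FD.AG {S : Subgroup X} (h : FD A G S) : A ≤ normalizer (G : Set X) := h.toSimp.AG

theorem FD.S_le {S : Subgroup X} (h : FD A G S) : S ≤ ⁅A, A⁆ := fun x hx =>
  h.ds A (Spl.self A G) x (h.SA hx) (h.syl.le hx)

end CfsgLib.Der
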