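import Cfsg.Agent.Lib.Der.VM
import Cfsg.Agent.Lib.Cop.End
import Cfsg.Agent.Lib.OFP.Defs
import Cfsg.Agent.Lib.ZStar.Main

/-! The last step. -/

set_option autoImplicit false
set_option linter.unusedSectionVars false

namespace CfsgLib.Der

open Subgroup Cfsg CfsgLib.LAE CfsgLib.Push CfsgLib.Blocks CfsgLib.ZJ CfsgLib.OFP CfsgLib.Cop
open scoped commutatorElement

universe u

variable {X : Type u} [Group X] [Finite X] {A G S M V V' : Subgroup X}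

/-- PROOF: as `Cop.closed_of_good` (Lib/Cop/End.lean) with the predicate `∃ m ∈ M, ∀ a ∈ T, g a g⁻¹ = m a m⁻¹`. -/
theorem ctrl_of_good (hS : IsSylowIn 2 S G)
    (good : ∀ U ≤ S, ∀ g ∈ G, g ∈ 𝒩[U] → ∃ c ∈ 𝒞[U], ∃ m ∈ M, g = c * m)
    {x g : X} (hx : x ∈ S) (hg : g ∈ G) (h : g * x * g⁻¹ ∈ S) :
    ∃ m ∈ M, g * x * g⁻¹ = m * x * m⁻¹ := by
  have : Fact (Nat.Prime 2) := ⟨Nat.prime_two⟩
  have hS' : Tech.IsSylowIn 2 S G := ⟨hS.le, hS.isPGroup, hS.not_dvd_relIndex⟩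
  have key := CFun.alperin_induction_extremal hS'
    (fun T g => ∃ m ∈ M, ∀ a ∈ T, g * a * g⁻¹ = m * a * m⁻¹)
    (fun T a b _ _ _ _ _ h1 h2 => by
      obtain ⟨m, hm, e1⟩ := h1
      obtain ⟨n, hn, e2⟩ := h2
      refine ⟨n * m, M.mul_mem hn hm, fun y hy => ?_⟩
      have e3 := e2 _ (Tech.conj_mem_cj.2 hy)
      calc b * a * y * (b * a)⁻¹ = b * (a * y * a⁻¹) * b⁻¹ := by group
        _ = n * (m * y * m⁻¹) * n⁻¹ := by rw [e3, e1 y hy]
        _ = n * m * y * (n * m)⁻¹ := by group)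
    (fun T U g h _ _ _ h1 => h1.imp fun m hm => ⟨hm.1, fun y hy => hm.2 y (h hy)⟩)
    (fun T hT _ _ y hy => by
      obtain ⟨c, hc, m, hm, e⟩ := good T hT y⁻¹ (inv_mem hy.1) (inv_mem hy.2)
      refine ⟨m⁻¹, M.inv_mem hm, fun a ha => ?_⟩
      have e1 : y = m⁻¹ * c⁻¹ := by rw [← mul_inv_rev, ← e, inv_inv]
      have e2 : c⁻¹ * a * c = a := by rw [mul_assoc, hc a ha, inv_mul_cancel_left]
      have e3 : y * a * y⁻¹ = m⁻¹ * (c⁻¹ * a * c) * m := by rw [e1]; group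
      rw [e3, e2, inv_inv])
  obtain ⟨m, hm, e⟩ := key (zpowers x) (zpowers_le.2 hx) g hg (by
    rw [Tech.cj, MonoidHom.map_zpowers, zpowers_le]
    exact h)
  exact ⟨m, hm, e x (mem_zpowers x)⟩

/-- PROOF: as in `Cop.end_false`: V.subgroupOf G is strongly closed (`closed_of_good`, M ≤ N V), `one_class`.
V' = ⊥: for 1 ≠ t ∈ V', a ∈ A: a t a⁻¹ ∈ V' ≤ S is G-conjugate to t, so M-conjugate (`ctrl_of_good`), `v'.inv`.
Hence M ≤ C(V) (`v'.cen`); an involution z ∈ V has g z g⁻¹ ∈ S ⇒ g z g⁻¹ = m z m⁻¹ = z: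
`ZStar.isIsolatedInvolution_of_sylow`, `ZStar.not_isolated_of_simple` in the group G. -/
theorem end_false (simple : IsSimpleGroup G) (nc : ¬ IsMulCommutative G) (AG : A ≤ 𝒩[G])
    (hS : IsSylowIn 2 S G) (VS : V ≤ S) (V1 : V ≠ ⊥) (sq : ∀ v ∈ V, v * v = 1) (MV : M ≤ 𝒩[V])
    (v' : VM A M V V')
    (good : ∀ U ≤ S, ∀ g ∈ G, g ∈ 𝒩[U] → ∃ c ∈ 𝒞[U], ∃ m ∈ M, g = c * m) : False := by
  have : Fact (Nat.Prime 2) := ⟨Nat.prime_two⟩
  have VG : V ≤ G := VS.trans hS.le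
  have Vc : ∀ x ∈ V, ∀ y ∈ V, x * y = y * x := fun x hx y hy => by
    have e1 := inv_eq_of_mul_eq_one_right (sq _ (V.mul_mem hx hy))
    rw [← e1, mul_inv_rev, inv_eq_of_mul_eq_one_right (sq x hx), inv_eq_of_mul_eq_one_right (sq y hy)]
  have ord : ∀ t ∈ V, t ≠ 1 → orderOf t = 2 := fun t ht t1 =>
    orderOf_eq_prime (by rw [pow_two]; exact sq t ht) t1
  obtain ⟨z, z1⟩ := ne_bot_iff_exists_ne_one.1 V1
  have z1' : (z : X) ≠ 1 := fun e => z1 (Subtype.ext e)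
  have hsc : IsStronglyClosed (V.subgroupOf G) (hS.toSylow : Subgroup G) :=
    ⟨fun x hx => VS hx, fun x hx c hc => closed_of_good hS (fun U hU g hg hn => by
      obtain ⟨c, hc, m, hm, e⟩ := good U hU g hg hn
      exact ⟨c, hc, m, MV hm, e⟩) hx (VS hx) c.2 hc⟩
  have triv : ∀ t ∈ V', t = 1 := fun t ht => by
    by_contra t1
    refine t1 (v'.inv t ht fun a ha => ?_)
    have tV : t ∈ V := v'.le ht
    have aV : a * t * a⁻¹ ∈ V := v'.le (LAE.conj_mem_of_mem_normalizer (v'.AV ha) ht)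
    have a1 : a * t * a⁻¹ ≠ 1 := fun e => t1 (by simpa using e)
    have hcj := one_class nc hS.toSylow (V := V.subgroupOf G)
      (ne_bot_iff_exists_ne_one.2 ⟨⟨⟨z, VG z.2⟩, z.2⟩,
        fun e => z1' (congrArg (fun x => ((x.1 : G) : X)) e)⟩)
      ⟨⟨fun x y => Subtype.ext (Subtype.ext (Vc _ x.2 _ y.2))⟩⟩ hsc
      (x := ⟨t, VG tV⟩) (y := ⟨a * t * a⁻¹, VG aV⟩)
      ((orderOf_coe _).symm.trans (ord t tV t1)) ((orderOf_coe _).symm.trans (ord _ aV a1))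
    obtain ⟨c, hc⟩ := isConj_iff.1 hcj
    have hc' : (c : X) * t * (c : X)⁻¹ = a * t * a⁻¹ := congrArg Subtype.val hc
    obtain ⟨m, hm, e⟩ := ctrl_of_good hS good (VS tV) c.2 (hc' ▸ VS aV)
    exact ⟨m, hm, hc'.symm.trans e⟩
  have MC : ∀ m ∈ M, m ∈ centralizer (V : Set X) := fun m hm =>
    v'.cen m hm fun t ht => by rw [triv t ht, one_mul, mul_one]
  refine ZStar.not_isolated_of_simple nc (⟨z, VG z.2⟩ : G)
    (ZStar.isIsolatedInvolution_of_sylow hS.toSylow ((orderOf_coe _).symm.trans (ord _ z.2 z1')) (VS z.2)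
      fun g hg => Subtype.ext ?_)
  obtain ⟨m, hm, e⟩ := ctrl_of_good hS good (VS z.2) g.2 hg
  exact e.trans (by rw [← MC m hm z z.2, mul_inv_cancel_right])

end CfsgLib.Der
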