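import Cfsg.Agent.Lib.Der.Defs

/-! Vectors with an invariant class are fixed by the Fitting subgroup. -/

set_option autoImplicit false
set_option linter.unusedSectionVars false

open Subgroup Cfsg CfsgLib.LAE CfsgLib.ZN CfsgLib.MinS CfsgLib.Cop Module
open scoped commutatorElement

universe u

namespace CfsgLib.Der

variable {X : Type u} [Group X] [Finite X] {A G H E Z : Subgroup X}
variable {V : Type*} [AddCommGroup V] [Module (ZMod 2) V] [Finite V] {F : Subgroup (GLv V)} {w : V}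

/-- PROOF: D = H ⊓ s.pre ⊥, H₁ = H ⊓ s.pre F, R a Sylow r-subgroup of H₁ (`exists_isSylowIn`); s.im R = F, i.e. every
element of H₁ is d·x with d ∈ D, x ∈ R (|H₁| = |F||D|, `Sec.card_im`; or H₁/D an r-group).
Y₀ = {y ∈ H ⊔ A | ρ y ∈ N(F), ρ y w = w} normalizes H₁ and contains D; Y = Y₀ ⊓ N(R).  For a ∈ A: a = h y, h ∈ H,
y ∈ Y₀ (hw); Frattini y = k n, k ∈ H₁, n ∈ N(R) (`IsSylowIn.frattini`), k = d x, so d⁻¹ y = x n ∈ Y: `Spl A G Y`.
Take e ∈ E with π e = w.  Y ≤ N(Z), e ∈ N(Z), ⁅y, e⁆ ∈ Z for y ∈ Y (`ρ_π_eq_iff`), so e ∈ N(Z ⊔ Y); `sn` gives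
e = z y, y = z⁻¹ e ∈ Y ∩ E, π y = w.  For x ∈ R: c = ⁅x, y⁆ ∈ R ∩ E, c^(r^k) = 1 gives r^k • π c = 0, π c = 0 (r odd),
so ρ x w = w. -/
theorem keyp (sn : SN A G) (s : Sec (H ⊔ A) E Z V) (hH : H ≤ G) (hE : E ≤ G)
    (hA : A ≤ normalizer (H : Set X)) (hF : F ≤ s.im H) {r : ℕ} [Fact r.Prime] (r2 : r ≠ 2)
    (pF : IsPGroup r F)
    (hw : ∀ α ∈ s.im A, ∃ f ∈ s.im H, f⁻¹ * α ∈ normalizer (F : Set (GLv V)) ∧ (f⁻¹ * α) w = w) :
    w ∈ fxS F := by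
  have hN : H ⊔ A ≤ normalizer (H : Set X) := sup_le le_normalizer hA
  have mH : ∀ {x}, x ∈ H → x ∈ H ⊔ A := fun h => mem_sup_left h
  obtain ⟨R, hR⟩ := exists_isSylowIn r (H ⊓ s.pre F)
  have RH : R ≤ H := hR.le.trans inf_le_left
  have e1 : s.im (H ⊓ s.pre F) = F := le_antisymm (fun x hx => by
    obtain ⟨g, hg, -, rfl⟩ := s.mem_im.1 hx
    exact (s.mem_pre.1 hg.2).2) fun x hx => by
    obtain ⟨g, hg, hg', rfl⟩ := s.mem_im.1 (hF hx)
    exact s.ρ_mem_im ⟨hg, s.mem_pre.2 ⟨hg', hx⟩⟩ hg'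
  have e2 : s.im R = F := by
    have h : IsSylowIn r (s.im R) (s.im (H ⊓ s.pre F)) :=
      (hR.subgroupOf (inf_le_left.trans le_sup_left : H ⊓ s.pre F ≤ H ⊔ A)).map s.hom
    rw [e1] at h
    exact (h.eq_of_le F pF h.le le_rfl).symm
  let Y : Subgroup X := s.pre (normalizer (F : Set (GLv V)) ⊓ MulAction.stabilizer (GLv V) w) ⊓ normalizer (R : Set X)
  have mY : ∀ y, y ∈ Y ↔ (y ∈ H ⊔ A ∧ s.ρ y ∈ normalizer (F : Set (GLv V)) ∧ s.ρ y w = w) ∧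
      y ∈ normalizer (R : Set X) := fun y => and_congr_left' s.mem_pre
  have spl : Spl A G Y := fun a ha => by
    have ha' : a ∈ H ⊔ A := mem_sup_right ha
    obtain ⟨f, hf, h1, h2⟩ := hw _ (s.ρ_mem_im ha ha')
    obtain ⟨h, hh, hh', rfl⟩ := s.mem_im.1 hf
    rw [← s.ρ_inv hh', ← s.ρ_mul _ (inv_mem hh') _ ha'] at h1 h2
    have hy : h⁻¹ * a ∈ H ⊔ A := mul_mem (inv_mem hh') ha'
    obtain ⟨k, hk, n, hn, e⟩ := hR.frattini (x := h⁻¹ * a) (mem_normalizer_fintype fun u hu =>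
      ⟨conj_mem_of_mem_normalizer (hN hy) hu.1, s.mem_pre.2
        ⟨mul_mem (mul_mem hy (mH hu.1)) (inv_mem hy), by
          rw [s.ρ_conj hy (mH hu.1)]
          exact conj_mem_of_mem_normalizer h1 (s.mem_pre.1 hu.2).2⟩⟩)
    obtain ⟨x, hx, hx', e'⟩ := s.mem_im.1 (e2.ge (s.mem_pre.1 hk.2).2)
    have hk' := mH hk.1
    have e3 : (h * k * x⁻¹)⁻¹ * a = x * k⁻¹ * (h⁻¹ * a) := by group
    have e4 : s.ρ (x * k⁻¹ * (h⁻¹ * a)) = s.ρ (h⁻¹ * a) := by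
      rw [s.ρ_mul _ (mul_mem hx' (inv_mem hk')) _ hy, s.ρ_mul _ hx' _ (inv_mem hk'), s.ρ_inv hk', e',
        mul_inv_cancel, one_mul]
    refine ⟨h * k * x⁻¹, hH (mul_mem (mul_mem hh hk.1) (inv_mem (RH hx))), (mY _).2 ⟨?_, ?_⟩⟩
    · rw [e3, e4]
      exact ⟨mul_mem (mul_mem hx' (inv_mem hk')) hy, h1, h2⟩
    · rw [e3, e, mul_assoc, inv_mul_cancel_left]
      exact mul_mem (le_normalizer hx) hn
  obtain ⟨e, he, rfl⟩ := s.surj w
  have hZ : H ⊔ A ≤ normalizer (Z : Set X) := fun y hy => mem_normalizer_fintype fun u hu =>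
    (s.π_eq_zero _ (s.conj_mem hy (s.Z_le hu))).1 (by
      rw [s.conj y hy u (s.Z_le hu), (s.π_eq_zero u (s.Z_le hu)).2 hu, map_zero])
  have hYZ : Y ≤ normalizer (Z : Set X) := fun y hy => hZ ((mY y).1 hy).1.1
  have hn : e ∈ normalizer ((Z ⊔ Y : Subgroup X) : Set X) := mem_normalizer_fintype fun u hu => by
    obtain ⟨c, hc, y, hy, rfl⟩ := (mem_sup_iff_of_right_le_normalizer hYZ).1 hu
    have h1 : e * c * e⁻¹ ∈ Z := (s.π_eq_zero _ (mul_mem (mul_mem he (s.Z_le hc)) (inv_mem he))).1 (by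
      rw [s.π_mul _ (mul_mem he (s.Z_le hc)) _ (inv_mem he), s.π_mul _ he _ (s.Z_le hc), s.π_inv he,
        (s.π_eq_zero c (s.Z_le hc)).2 hc, add_zero, ← two_smul (ZMod 2), show (2 : ZMod 2) = 0 from rfl, zero_smul])
    have h2 := (s.ρ_π_eq_iff ((mY y).1 hy).1.1 he).1 ((mY y).1 hy).1.2.2
    rw [show e * (c * y) * e⁻¹ = e * c * e⁻¹ * ⁅y, e⁆⁻¹ * y by simp only [commutatorElement_def]; group]
    exact mul_mem (mem_sup_left (mul_mem h1 (inv_mem h2))) (mem_sup_right hy)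
  obtain ⟨c, hc, y, hy, e3⟩ := (mem_sup_iff_of_right_le_normalizer hYZ).1
    (sn _ (spl.mono le_sup_right) e (hE he) hn)
  have yE : y ∈ E := by
    have := mul_mem (inv_mem (s.Z_le hc)) he
    rwa [e3, inv_mul_cancel_left] at this
  have e4 : s.π e = s.π y := by
    rw [e3, s.π_mul _ (s.Z_le hc) _ yE, (s.π_eq_zero c (s.Z_le hc)).2 hc, zero_add]
  rw [mem_fxS, e4, ← e2]
  intro g hg
  obtain ⟨x, hx, hx', rfl⟩ := s.mem_im.1 hg
  rw [s.ρ_π_eq_iff hx' yE]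
  have cE := s.commutator_mem hx' yE
  have cR : ⁅x, y⁆ ∈ R := by
    rw [show ⁅x, y⁆ = x * (y * x⁻¹ * y⁻¹) by simp only [commutatorElement_def]; group]
    exact mul_mem hx (conj_mem_of_mem_normalizer ((mY y).1 hy).2 (inv_mem hx))
  obtain ⟨k, hk⟩ := hR.isPGroup ⟨_, cR⟩
  have hk' : ⁅x, y⁆ ^ r ^ k = 1 := congrArg Subtype.val hk
  obtain ⟨m, hm⟩ : Odd (r ^ k) := ((Fact.out : r.Prime).odd_of_ne_two r2).pow
  have h2 : ⁅x, y⁆ * ⁅x, y⁆ ∈ Z := (s.π_eq_zero _ (mul_mem cE cE)).1 (by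
    rw [s.π_mul _ cE _ cE, ← two_smul (ZMod 2), show (2 : ZMod 2) = 0 from rfl, zero_smul])
  rw [hm, pow_succ, pow_mul, pow_two, mul_eq_one_iff_inv_eq] at hk'
  rw [← hk']
  exact inv_mem (pow_mem h2 m)

/-- PROOF: `keyp` for each Sylow subgroup F_r = pCoreOf r F of the nilpotent group F (N(F) ≤ N(F_r),
`le_normalizer_pCoreOf_of_le`); the stabilizer of w in F contains a Sylow r-subgroup for every prime r. -/
theorem key (sn : SN A G) (s : Sec (H ⊔ A) E Z V) (hH : H ≤ G) (hE : E ≤ G)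
    (hA : A ≤ normalizer (H : Set X)) (hF : F ≤ s.im H) (ho : Odd (Nat.card F))
    (hn : Group.IsNilpotent F)
    (hw : ∀ α ∈ s.im A, ∃ f ∈ s.im H, f⁻¹ * α ∈ normalizer (F : Set (GLv V)) ∧ (f⁻¹ * α) w = w) :
    w ∈ fxS F := by
  have : Finite (GLv V) := Finite.of_injective (fun g : GLv V => (g : V → V)) DFunLike.coe_injective
  have k : ∀ r ∈ (Nat.card F).primeFactors, pCore r F ≤ (MulAction.stabilizer (GLv V) w).subgroupOf F := by
    intro r hr x hx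
    have := Fact.mk (Nat.prime_of_mem_primeFactors hr)
    refine mem_fxS.1 (keyp sn s hH hE hA ((pCoreOf_le (p := r) F).trans hF) (r := r) ?_ (isPGroup_pCoreOf F)
      fun α hα => ?_) x (mem_pCore_iff.1 hx)
    · rintro rfl
      exact ho.not_two_dvd_nat (Nat.dvd_of_mem_primeFactors hr)
    · obtain ⟨f, hf, h1, h2⟩ := hw α hα
      exact ⟨f, hf, normalizer_le_normalizer_pCoreOf F h1, h2⟩
  have h1 : (MulAction.stabilizer (GLv V) w).subgroupOf F = ⊤ := by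
    rw [← index_eq_one]
    by_contra h
    obtain ⟨r, hr, hd⟩ := Nat.exists_prime_and_dvd h
    have := Fact.mk hr
    exact Core.not_dvd_index_pCore_of_isNilpotent (G := F) r (hd.trans (index_dvd_of_le
      (k r (Nat.mem_primeFactors.2 ⟨hr, hd.trans (index_dvd_card _), Nat.card_pos.ne'⟩))))
  exact mem_fxS.2 fun g hg => subgroupOf_eq_top.1 h1 hg

end CfsgLib.Der
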