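import Cfsg.Agent.Lib.Der.Tr
import Cfsg.Agent.Lib.Der.Q3a

/-! An invariant quadratic group contains no small involution. -/

set_option autoImplicit false
set_option linter.unusedSectionVars false

open Subgroup Cfsg CfsgLib.LAE CfsgLib.ZN CfsgLib.MinS CfsgLib.Cop Module
open scoped commutatorElement

universe u

namespace CfsgLib.Der

variable {V : Type*} [AddCommGroup V] [Module (ZMod 2) V] [Finite V]
variable {B F Q : Subgroup (GLv V)} {t y g : GLv V}

theorem lin_der (h : CNil.QH F Q) (BF : B ≤ normalizer (F : Set (GLv V)))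
    (BQ : B ≤ normalizer (Q : Set (GLv V))) (hf : Q ⊓ centralizer (F : Set (GLv V)) = ⊥)
    (QB : Q ≤ ⁅B, B⁆) (key : ∀ u : V, (∀ α ∈ B, ∃ f ∈ F, f u = α u) → u ∈ fxS F) :
    ¬ CNil.Sm Q t := fun ht => by
  rcases q3_dich h hf ht with ⟨s, hs, y, -, hn, H⟩ | ⟨u, ⟨f, hf', e⟩, H⟩
  · refine hn (trc (Y := B) (QB hs) ?_ fun g hg hg' => ?_)
    · rcases H s (h.nrm hs) (le_normalizer hs) with e | e
      · exact e.2
      · rw [mul_inv_cancel_right] at e
        exact absurd e hn
    · rcases H g⁻¹ (inv_mem (BF hg)) (inv_mem (BQ hg)) with e | e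
      · exact absurd (inv_mem_iff.1 e.2) hg'
      · simpa only [inv_inv] using e
  · exact e (mem_fxS.1 (key u fun α hα => H α (BF hα) (BQ hα)) f hf')

end CfsgLib.Der
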