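import Cfsg.Agent.Lib.Der.Defs
import Cfsg.Agent.Lib.CNil.Lq

/-! Two linear lemmas on quadratic groups over `𝔽₂`. -/

set_option autoImplicit false
set_option linter.unusedSectionVars false

open Subgroup Cfsg CfsgLib.LAE CfsgLib.ZN CfsgLib.MinS CfsgLib.Cop Module
open scoped commutatorElement

universe u

namespace CfsgLib.Der

variable {V : Type*} [AddCommGroup V] [Module (ZMod 2) V] [Finite V]
variable {B F Q : Subgroup (GLv V)} {t y g : GLv V}

/-- An operator centralizing `t` normalizes the cyclic group of an inverted element of `Z([F, t])`. -/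
theorem norm_inv (h : CNil.QH F Q) (ht : CNil.Sm Q t)
    (hy : y ∈ closure (invertedBy F t) ⊓ centralizer (invertedBy F t)) (hi : t * y * t⁻¹ = y⁻¹)
    (hg : g ∈ normalizer (F : Set (GLv V))) (gt : g * t * g⁻¹ = t) :
    g ∈ normalizer (zpowers y : Set (GLv V)) := by
  have PF : closure (invertedBy F t) ≤ F := (closure_le F).2 fun x hx => hx.1
  let J : Subgroup (GLv V) :=
    { carrier := {x | x ∈ closure (invertedBy F t) ⊓ centralizer (invertedBy F t) ∧
        t * x * t⁻¹ = x⁻¹}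
      one_mem' := ⟨one_mem _, by simp⟩
      mul_mem' := fun {a b} ha hb => ⟨mul_mem ha.1 hb.1, by
        rw [← conj_mul, ha.2, hb.2, ← mul_inv_rev, (h.comm_zs ht ht ha.1 hb.1.1).eq]⟩
      inv_mem' := fun {a} ha => ⟨inv_mem ha.1, by rw [← conj_inv, ha.2]⟩ }
  by_cases y0 : y = 1
  · subst y0
    exact mem_normalizer_fintype fun x hx => by
      rw [zpowers_one_eq_bot, SetLike.mem_coe, mem_bot] at hx ⊢
      simp [hx]
  have yI : ∀ x ∈ J, x ∈ invertedBy F t := fun x hx => ⟨PF hx.1.1, hx.2⟩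
  obtain ⟨d1, -, d3⟩ := h.dims ht (yI y ⟨hy, hi⟩) y0
  have hJ : Nat.card J ∣ 15 := by
    have := PD.card_dvd_of_free_set J ((cm ⊤ y : Set V) \ {0}) (fun x hx v hv =>
      ⟨Inv.cm_comm (h.comm_zs ht ht hx.1 hy.1).eq (Inv.top x) v hv.1,
        fun e => hv.2 (x.map_eq_zero_iff.1 e)⟩) fun x hx v hv e => by
      by_contra x0
      obtain ⟨-, -, e3⟩ := h.dims ht (yI x hx) x0
      have l1 : cm ⊤ t ≤ cm ⊤ x := e3 ▸ le_sup_left
      have l2 : cm ⊤ y ≤ cm ⊤ x := d3 ▸ sup_le l1 ((Submodule.map_mono l1).trans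
        (Inv.cm_comm (h.comm_zs ht ht hy hx.1.1).eq (Inv.top y)).map_le)
      exact hv.2 ((Submodule.mem_bot _).1 ((cm_inf_fx (M1.odd_orderOf_of_mem h.odd (yI x hx).1) ⊤).le
        ⟨l2 hv.1, mem_fx.2 e⟩))
    rwa [Set.ncard_sdiff_singleton_of_mem (cm ⊤ y).zero_mem, ← Nat.card_coe_set_eq,
      show Nat.card ((cm ⊤ y : Submodule (ZMod 2) V) : Set V) = 2 ^ 4 by
        rw [← d1]
        simpa [Nat.card_zmod] using Module.natCard_eq_pow_finrank (K := ZMod 2) (V := cm ⊤ y)] at this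
  have z1 : IsZGroup J := IsZGroup.of_squarefree
    (Squarefree.squarefree_of_dvd hJ (by decide +kernel))
  have z2 := h.nil
  have z3 : Group.IsNilpotent J := Group.nilpotent_of_mulEquiv
    (subgroupOfEquivOfLe (fun x hx => (yI x hx).1 : J ≤ F))
  have gJ : g ∈ normalizer (J : Set (GLv V)) := mem_normalizer_fintype fun x hx =>
    ⟨by simpa only [gt] using CNil.conj_zs hg hx.1, by
      simpa only [gt] using (CNil.conj_iv hg (yI x hx)).2⟩
  let φ := J.normalizerMonoidHom ⟨g, gJ⟩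
  obtain ⟨m, hm⟩ := MonoidHom.map_cyclic (φ : J →* J)
  have e : g * y * g⁻¹ = y ^ m := congrArg Subtype.val (hm ⟨y, hy, hi⟩)
  refine mem_normalizer_fintype fun x hx => ?_
  obtain ⟨k, rfl⟩ := mem_zpowers_iff.1 hx
  rw [← conj_zpow, e]
  exact zpow_mem (zpow_mem (mem_zpowers y) m) k

/-- Componentwise transport along a family of subspaces. -/
theorem sum_class {ι : Type*} [Fintype ι] (W : ι → Submodule (ZMod 2) V) (w v : ι → V)
    (hw : ∀ i, w i ∈ W i) (hv : ∀ i, v i ∈ W i)
    (tr : ∀ i, ∃ f ∈ F, f (w i) = v i ∧ ∀ j, j ≠ i → W j ≤ fx f) :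
    ∃ f ∈ F, f (∑ i, w i) = ∑ i, v i := by
  classical
  have key : ∀ s : Finset ι, ∃ f ∈ F, f (∑ i, w i) = ∑ i, if i ∈ s then v i else w i := by
    intro s
    induction s using Finset.induction_on with
    | empty => exact ⟨1, one_mem _, by simp⟩
    | insert a s ha ih =>
      obtain ⟨f, hf, e⟩ := ih
      obtain ⟨f', hf', e', hx⟩ := tr a
      refine ⟨f' * f, mul_mem hf' hf, ?_⟩
      rw [show (f' * f) (∑ i, w i) = f' (f (∑ i, w i)) from rfl, e, map_sum]
      refine Finset.sum_congr rfl fun i _ => ?_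
      by_cases hi : i = a
      · subst hi
        simp [ha, e']
      · have : (if i ∈ s then v i else w i) ∈ W i := by split_ifs; exacts [hv i, hw i]
        rw [mem_fx.1 (hx i hi this)]
        simp [hi]
  simpa using key Finset.univ

end CfsgLib.Der
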