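import Cfsg.Agent.Lib.Der.Key
import Cfsg.Agent.Lib.Cop.S1GL

/-! The hypothesis `NoOm`. -/

set_option autoImplicit false
set_option linter.unusedSectionVars false

open Subgroup Cfsg CfsgLib.LAE CfsgLib.ZN CfsgLib.MinS CfsgLib.Cop Module
open scoped commutatorElement

universe u

namespace CfsgLib.Der

variable {X : Type u} [Group X] [Finite X] {A G : Subgroup X}

/-- `F` is transitive on a normalizer-invariant set of vectors which it does not fix. -/
theorem om_orbit' {V : Type*} [AddCommGroup V] [Module (ZMod 2) V] [Finite V] {F : Subgroup (GLv V)}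
    (hodd : Odd (Nat.card F)) (hn : Group.IsNilpotent F) {y : GLv V} (hy : Om F y) :
    ∃ u : V, u ∉ fxS F ∧ ∀ g ∈ normalizer (F : Set (GLv V)), ∃ f ∈ F, f u = g u := by
  classical
  obtain ⟨n, x, h1, h2, h3, -, -, -, h4⟩ := Om.exists_decomp hodd hn
  let U : Set V := {v | v ∈ ⨆ i, cm ⊤ (x i) ∧ ∀ i, x i v ≠ v}
  have hU : ∀ g ∈ normalizer (F : Set (GLv V)), ∀ v ∈ U, g v ∈ U := fun g hg v hv => by
    refine ⟨?_, fun i e => ?_⟩
    · have : (⨆ i, cm ⊤ (x i)).map (g : V →ₗ[ZMod 2] V) ≤ ⨆ i, cm ⊤ (x i) := by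
        rw [Submodule.map_iSup]
        refine iSup_le fun i => ?_
        obtain ⟨a, b⟩ := Om.conj (X := normalizer (F : Set (GLv V))) le_rfl (h1 i) hg
        obtain ⟨j, e | e⟩ := h2 _ a
        · rw [← b, e]; exact le_iSup (fun i => cm ⊤ (x i)) j
        · rw [← b, e, cm_top_inv]; exact le_iSup (fun i => cm ⊤ (x i)) j
      exact this ⟨v, hv.1, rfl⟩
    · obtain ⟨a, -⟩ := Om.conj (X := normalizer (F : Set (GLv V))) le_rfl (h1 i) (inv_mem hg)
      have e' : v ∈ fx (g⁻¹ * x i * g⁻¹⁻¹) := mem_fx.2 (by rw [inv_inv, gmul, gmul, e, ginv])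
      obtain ⟨j, e2 | e2⟩ := h2 _ a
      · exact hv.2 j (mem_fx.1 (e2 ▸ e'))
      · rw [e2, fx_inv] at e'; exact hv.2 j (mem_fx.1 e')
  have tr : ∀ v ∈ U, ∀ v' ∈ U, ∃ f ∈ F, f v = v' := fun v hv v' hv' => by
    have key : ∀ s : Finset (Fin n), ∃ f ∈ F, ∀ i ∈ s,
        x i (f v) + x i (x i (f v)) = x i v' + x i (x i v') := fun s => by
      induction s using Finset.induction_on with
      | empty => exact ⟨1, one_mem _, by simp⟩
      | insert j s hj ih =>
        obtain ⟨f, hf, e⟩ := ih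
        obtain ⟨a1, -, a3⟩ := (h1 j).comp (f v)
        obtain ⟨b1, -, b3⟩ := (h1 j).comp v'
        have a4 := mt a3.1 ((hU f (le_normalizer hf) v hv).2 j)
        have b4 := mt b3.1 (hv'.2 j)
        set w := x j (f v) + x j (x j (f v)) with hw
        have a5 : x j w ≠ w := fun e => a4 ((Submodule.mem_bot _).1
          ((h1 j).fpf.le ⟨a1, mem_fx.2 e⟩))
        have a6 : x j w ∈ cm ⊤ (x j) := (Inv.top _).cm_self w a1
        obtain ⟨m, hm⟩ : ∃ m : ℕ, (x j ^ m) w = x j v' + x j (x j v') := by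
          rcases two_dim (h1 j).rk a1 a6 a4 (fun e => a4 ((x j).map_eq_zero_iff.1 e)) a5 b1
            with e | e | e | e
          · exact absurd e b4
          · exact ⟨0, by rw [e]; rfl⟩
          · exact ⟨1, by rw [e, pow_one]⟩
          · exact ⟨2, by rw [e, sq, gmul, (h1 j).sq a1]⟩
        have c : ∀ i, x i * x j ^ m = x j ^ m * x i := fun i => by
          refine (Commute.pow_right ?_ m).eq
          by_cases e : i = j
          · rw [e]
          · exact (h3 i j e).2
        refine ⟨x j ^ m * f, mul_mem (pow_mem (h1 j).mem m) hf, fun i hi => ?_⟩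
        rw [gmul, gcomm (c i), gcomm (c i), ← map_add]
        rcases Finset.mem_insert.1 hi with rfl | hi
        · exact hm
        · rw [← e i hi]
          exact mem_fx.1 (fx_le_pow _ m ((h3 i j fun e => hj (e ▸ hi)).1 ((h1 i).comp (f v)).1))
    obtain ⟨f, hf, e⟩ := key Finset.univ
    refine ⟨f, hf, add_eq_zero_v.1 ((Submodule.mem_bot _).1 (h4.le ⟨?_, ?_⟩))⟩
    · exact add_mem (hU f (le_normalizer hf) v hv).1 hv'.1
    · refine (Submodule.mem_iInf _).2 fun i => mem_fx.2 (((h1 i).comp _).2.2.1 ?_)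
      have := e i (Finset.mem_univ i)
      simp only [map_add]
      rw [add_add_add_comm, this, add_self_v]
  have hw : ∀ i, ∃ w ∈ cm ⊤ (x i), x i w ≠ w := fun i => by
    by_contra hcon
    push Not at hcon
    exact (h1 i).not_le fun w hw => mem_fx.2 (hcon w hw)
  choose w w1 w2 using hw
  have hu : ∑ i, w i ∈ U := by
    refine ⟨sum_mem fun i _ => Submodule.mem_iSup_of_mem i (w1 i), fun i e => w2 i ?_⟩
    rw [← Finset.add_sum_erase _ _ (Finset.mem_univ i), map_add, map_sum,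
      Finset.sum_congr rfl fun j hj => mem_fx.1 ((h3 j i (Finset.ne_of_mem_erase hj)).1 (w1 j))] at e
    exact add_right_cancel e
  refine ⟨_, fun e => ?_, fun g hg => tr _ hu _ (hU g hg _ hu)⟩
  obtain ⟨i, -⟩ := h2 y hy
  exact hu.2 i (mem_fxS.1 e _ (h1 i).mem)

theorem SN.noOm (sn : SN A G) : NoOm A G := by
  intro H E Z V _ _ _ s F hH hE hA hF hn hodd hnil x hx
  obtain ⟨u, u0, hu⟩ := om_orbit' hodd hnil hx
  refine u0 (key sn s hH hE hA hF hodd hnil fun α hα => ?_)
  obtain ⟨f, hf, e⟩ := hu α (hn hα)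
  exact ⟨f, hF hf, mul_mem (inv_mem (le_normalizer hf)) (hn hα), by rw [gmul, ← e, ginv]⟩

end CfsgLib.Der
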