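import Cfsg.Agent.Lib.Der.Lin
import Cfsg.Agent.Lib.Der.Om
import Cfsg.Agent.Lib.Cop.S1V

/-! The properties of the module `vv G S`. -/

set_option autoImplicit false
set_option linter.unusedSectionVars false

open Subgroup Cfsg CfsgLib.LAE CfsgLib.ZN CfsgLib.MinS CfsgLib.Cop Module
open scoped commutatorElement

universe u

namespace CfsgLib.Der

variable {X : Type u} [Group X] [Finite X] {A G S H E Z : Subgroup X}

/-- PROOF: copy `Cop.Sx.q3` (Lib/Cop/S1Sec.lean).  Get F from `M1.exists_fit'` directly (as in `Sx.sec_fit`) to keep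
s.im A ≤ N(F).  Only h3 changes: `lin_der` with Q = s.im B', B = s.im A; `QB`: s.im B' ≤ s.im ⁅A,A⁆ ≤ ⁅s.im A, s.im A⁆
(`ρ_commutator`, commutator_le-style induction / `im` is a map of a hom); `key`: `Der.key` as in `SN.noOm`. -/
theorem sx_q3 (h : Sx A H E Z) (sn : SN A G) (hH : H ≤ G) (hE : E ≤ G)
    (hs : Group.IsSolvable H) {B B' B₀ E₀ : Subgroup X} (hB : B ≤ B') (hB' : B' ≤ H)
    (hD : B' ≤ ⁅A, A⁆)
    (hA : A ≤ normalizer (B' : Set X)) (hq : ⁅B', ⁅B', E⁆⁆ ≤ Z) (hsq : ∀ b ∈ B, b * b = 1)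
    (hn : ¬ B ≤ cz E Z)
    (h0 : B ⊓ cz E Z ≤ B₀) (hZ : Z ≤ E₀) (hE₀ : E₀ ≤ E) (hc : ⁅B, E₀⁆ ≤ Z) :
    B₀.relIndex B ^ 2 < E₀.relIndex E := by
  obtain ⟨V, _, _, _, ⟨s⟩⟩ := exists_sec h.supE h.supZ h.le h.nZ h.sq
  have hs0 : Group.IsSolvable (s.im H) := by
    rw [← im_secRes s le_sup_left le_rfl]; exact Core.isSolvable_map _ _
  obtain ⟨F, f1, f3, f4, f5, f6⟩ := M1.exists_fit' hs0 (h.red V s)
  have hF : Red (s.im H) F := ⟨f1, le_normalizer.trans f3, f4, f5, f6⟩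
  have AF := (s.im_le_normalizer h.AH).trans f3
  have hO : ∀ x, ¬ Om F x := sn.noOm H E Z V s F hH hE h.AH f1 AF f4 f5
  obtain ⟨k, a, d, t, h1, h2⟩ := h.td s hF (hB.trans hB') hsq h0 hZ hE₀ hc
  have hq' : cmS ⊤ (s.im B') ≤ fxS (s.im B') := cmS_le_iff.2 fun x hx w _ => mem_fxS.2 fun y hy => by
    obtain ⟨g, hg, hL, rfl⟩ := s.mem_im.1 hx
    obtain ⟨g', hg', hL', rfl⟩ := s.mem_im.1 hy
    obtain ⟨e, he, rfl⟩ := s.surj w
    rw [← dl_apply, s.dl_π hL he]
    exact (s.ρ_π_eq_iff hL' (s.commutator_mem hL he)).2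
      (hq (commutator_mem_commutator hg' (commutator_mem_commutator hg he)))
  have hsq' : ∀ x ∈ s.im B', x * x = 1 := fun x hx => LinearEquiv.ext fun v => by
    have := mem_fxS.1 (cmS_le_iff.1 hq' x hx v trivial) x hx
    rw [map_sub, sub_eq_sub_iff_add_eq_add, add_self_v, add_eq_zero_v] at this
    exact this
  have hk : 0 < k := Nat.pos_of_ne_zero fun e => hn fun b hb => by
    have := t.card
    rw [e, pow_zero, card_eq_one] at this
    exact (h.ρ_eq_one s (hB' (hB hb))).1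
      (mem_bot.1 (this ▸ s.ρ_mem_im hb (mem_sup_left (hB' (hB hb)))))
  have QB : s.im B' ≤ ⁅s.im A, s.im A⁆ := (s.im_le_iff (hB'.trans le_sup_left)).2 (hD.trans
    (commutator_le.2 fun x hx y hy => s.mem_pre.2
      ⟨mem_sup_right (commutator_le_self A (commutator_mem_commutator hx hy)), by
        rw [s.ρ_commutator (mem_sup_right hx) (mem_sup_right hy)]
        exact commutator_mem_commutator (s.ρ_mem_im hx (mem_sup_right hx)) (s.ρ_mem_im hy (mem_sup_right hy))⟩))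
  have h3 : ∀ x ∈ s.im B, x ≠ 1 → 3 ≤ finrank (ZMod 2) (cm ⊤ x) := fun x hx x1 => by
    by_contra hcon
    refine lin_der (t := x) ⟨f4, f5, (s.im_mono hB').trans hF.norm, hO, hq'⟩ AF (s.im_le_normalizer hA)
      (red_faithful hF (s.im_mono hB') hsq') QB (fun u hu => key sn s hH hE h.AH f1 f4 f5 fun α hα => ?_)
      ⟨s.im_mono hB hx, x1, by omega⟩
    obtain ⟨f, hf, e⟩ := hu α hα
    exact ⟨f, f1 hf, mul_mem (inv_mem (le_normalizer hf)) (AF hα), by rw [gmul, ← e, ginv]⟩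
  have := lin_q3 t hO ((cmS_le_iff.2 fun x hx w _ => mem_fxS.2 fun y hy =>
    mem_fxS.1 (cmS_le_iff.1 hq' x (s.im_mono hB hx) w trivial) y (s.im_mono hB hy))) hk h3
  calc _ ≤ (2 ^ k) ^ 2 := Nat.pow_le_pow_left h1 2
    _ < 2 ^ _ := by rw [← pow_mul]; exact Nat.pow_lt_pow_right (by norm_num) (by omega)
    _ ≤ _ := h2

/-- PROOF: copy `Cop.vv_vv` (Lib/Cop/S1V.lean) with `sn.noOm` and `sx_q3`. -/
theorem vv_der (sn : SN A G) (hS : IsSylowIn 2 S G) (hG : A ≤ normalizer (G : Set X))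
    (hA : A ≤ normalizer (S : Set X)) (hD : S ≤ ⁅A, A⁆)
    (hs : Group.IsSolvable (G ⊓ normalizer (thompsonSubgroupOf 2 S : Set X) : Subgroup X)) :
    VV A S (vv G S) := by
  have hx := sx_vv hS hG hA
  have hSL : S ≤ G ⊓ normalizer (thompsonSubgroupOf 2 S : Set X) :=
    le_inf hS.le (le_normalizer.trans (PLocal.normalizer_le_normalizer_thompsonSubgroupOf S))
  have hVS : vv G S ≤ S := (vv_le_zJ hS.isPGroup).trans
    ((omegaZ_le _).trans (PLocal.thompsonSubgroupOf_le S))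
  have hcz : cz (vv G S) ⊥ ≤ centralizer (vv G S : Set X) := fun g hg e he =>
    (commutatorElement_eq_one_iff_mul_comm.1 (mem_bot.1 (hg.2.2 e he))).symm
  have hc : ∀ B : Subgroup X, ⁅B, vv G S ⊓ centralizer (B : Set X)⁆ ≤ ⊥ := fun B =>
    commutator_le.2 fun b hb e he =>
      mem_bot.2 (commutatorElement_eq_one_iff_mul_comm.2 (he.2 b hb))
  refine ⟨hVS, normalizer_le_vv (hS.le.trans le_normalizer) le_normalizer, hx.AE,
    fun v hv => mem_bot.1 (hx.sq v hv), fun B hB hsq => ?_, fun B B' hB hB' hA' hq hsq hn => ?_⟩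
  · have := hx.q2 sn.noOm inf_le_left (hVS.trans hS.le) hs (hB.trans hSL) hsq
      (inf_le_right.trans hcz) bot_le inf_le_left (hc B)
    rwa [inf_relIndex_left] at this
  · have := sx_q3 hx sn inf_le_left (hVS.trans hS.le) hs hB (hB'.trans hSL) (hB'.trans hD) hA'
      (commutator_le.2 fun b hb e he =>
        mem_bot.2 (commutatorElement_eq_one_iff_mul_comm.2 (hq he b hb))) hsq
      (fun h => hn (h.trans hcz)) (inf_le_right.trans hcz) bot_le inf_le_left (hc B)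
    rwa [inf_relIndex_left] at this

end CfsgLib.Der
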