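import Cfsg.Agent.Lib.Der.Step2
import Cfsg.Agent.Lib.Der.VV
import Cfsg.Agent.Lib.Der.Big
import Cfsg.Agent.Lib.Der.End
import Cfsg.Agent.Lib.Der.Cls
import Cfsg.Agent.Lib.CNil.Frame

/-! There is no minimal counterexample. -/

set_option autoImplicit false
set_option linter.unusedSectionVars false

open Subgroup Cfsg CfsgLib.LAE CfsgLib.OFP CfsgLib.Cop

universe u

namespace CfsgLib.Der

variable {X : Type u} [Group X] [Finite X] {A G S : Subgroup X}

namespace FD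

theorem S_ne_bot (h : FD A G S) : S ≠ ⊥ := by
  have : Fact (Nat.Prime 2) := ⟨Nat.prime_two⟩
  intro e
  have h1 := h.syl.not_dvd_relIndex
  rw [e, relIndex_bot_left] at h1
  exact h.toSimp.not_solvable (Cfsg.Agent.S0205.result (Nat.odd_iff.2 (by omega)))

theorem Z_ne_bot (h : FD A G S) : omegaZ 2 S ≠ ⊥ :=
  have : Fact (Nat.Prime 2) := ⟨Nat.prime_two⟩
  omegaZ_ne_bot h.syl.isPGroup h.S_ne_bot

theorem om (h : FD A G S) : NoOm A G := h.ds.sn.noOm

theorem vV (h : FD A G S) : VV A S (vv G S) :=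
  vv_der h.ds.sn h.syl h.AG h.AS h.S_le (CNil.solvJ h.toSimp h.syl h.AS h.S_ne_bot)

theorem solv_norm (h : FD A G S) {C : Subgroup X} (hC : C ≤ G) (pC : IsPGroup 2 C)
    (C1 : C ≠ ⊥) (hA : A ≤ normalizer (C : Set X)) :
    Group.IsSolvable (G ⊓ normalizer (C : Set X) : Subgroup X) :=
  CNil.solv_norm h.toSimp hC pC C1 hA

theorem SM (h : FD A G S) : S ≤ G ⊓ normalizer (vv G S : Set X) := le_inf h.syl.le h.vV.SV

theorem V_ne_bot (h : FD A G S) : vv G S ≠ ⊥ := fun e =>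
  h.Z_ne_bot (eq_bot_iff.2 ((omegaZ_le_vv G S).trans e.le))

theorem solvM (h : FD A G S) : Group.IsSolvable (G ⊓ normalizer (vv G S : Set X) : Subgroup X) :=
  h.solv_norm (h.vV.le.trans h.syl.le) (h.syl.isPGroup.to_le h.vV.le) h.V_ne_bot h.vV.AV

theorem AM (h : FD A G S) :
    A ≤ normalizer ((G ⊓ normalizer (vv G S : Set X) : Subgroup X) : Set X) :=
  le_normalizer_inf h.AG (h.vV.AV.trans (normalizer_le_normalizer_normalizer _))

theorem vm (h : FD A G S) : ∃ V', VM A (G ⊓ normalizer (vv G S : Set X)) (vv G S) V' :=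
  exists_vm h.ds.sn (sx_M h.syl h.AG h.AS) inf_le_left (h.vV.le.trans h.syl.le) h.solvM

theorem loc_inv (h : FD A G S) {C : Subgroup X} (h1 : C ≤ S) (C1 : C ≠ ⊥)
    (h2 : S ≤ normalizer (C : Set X)) (h3 : A ≤ normalizer (C : Set X)) :
    G ⊓ normalizer (C : Set X) ≤ CM (G ⊓ normalizer (vv G S : Set X)) C := by
  intro g hg
  obtain ⟨o, -, m, hm, hc, hn, rfl⟩ := CNil.step1_loc h.vV h.om h.syl h.AG h.AS h1 h2 h3
    (h.solv_norm (h1.trans h.syl.le) (h.syl.isPGroup.to_le h1) C1 h3) hg.1 hg.2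
  exact mem_CM.2 ⟨o, hc, m, hm, hn, rfl⟩

theorem loc_cz (h : FD A G S) {R : Subgroup X} (hR : R ≤ S) :
    G ⊓ centralizer (omegaZ 2 S : Set X) ⊓ normalizer (R : Set X) ≤
      CM (G ⊓ normalizer (vv G S : Set X)) R := by
  intro g hg
  have ZS : omegaZ 2 S ≤ S := omegaZ_le S
  have AZ : A ≤ normalizer (omegaZ 2 S : Set X) := h.AS.trans (normalizer_le_normalizer_omegaZ S)
  have hs := h.solv_norm (ZS.trans h.syl.le) (h.syl.isPGroup.to_le ZS) h.Z_ne_bot AZ
  have SH : S ≤ G ⊓ centralizer (omegaZ 2 S : Set X) := le_inf h.syl.le (le_centralizer_omegaZ S)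
  have h4 : Group.IsSolvable (G ⊓ centralizer (omegaZ 2 S : Set X) : Subgroup X) :=
    Group.isSolvable_of_isSolvable_injective (inclusion_injective
      (inf_le_inf_left G (centralizer_le_normalizer (omegaZ 2 S : Set X))))
  have h3 : A ≤ normalizer ((G ⊓ centralizer (omegaZ 2 S : Set X) : Subgroup X) : Set X) :=
    le_normalizer_inf h.AG (le_normalizer_centralizer AZ)
  have h5 := CNil.step1 h.vV h.om h.syl h.AS SH inf_le_left h3 h4 hg.1
  obtain ⟨o, ho, m, hm, rfl⟩ :=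
    (mem_sup_iff_of_right_le_normalizer (inf_le_left.trans (AG.le_normalizer_opr _))).1 h5
  exact mem_CM_of_odd (h.syl.isPGroup.to_le hR) (hR.trans h.SM)
    ((hR.trans SH).trans (AG.le_normalizer_opr _)) (Core.coprime_card_map_pPrimeCore _) ho
    ⟨hm.1.1, hm.2⟩ hg.2

theorem bigE (h : FD A G S) {F : Type} [Field F] {B Q P V V₀ : Subgroup X}
    (l : Lf F G (G ⊓ normalizer (vv G S : Set X)) S B Q P V V₀) (e : BigE B G (omegaZ 2 S)) : False := by
  obtain ⟨V', v'⟩ := h.vm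
  refine bigE_false e h.vV v' h.syl.isPGroup l.BS (omegaZ_le_vv G S) h.solvM h.AM inf_le_right
    (fun R RB hn T TS BT TR => l.hm R T (l.pB.to_le RB) (RB.trans (l.BS.trans l.SM)) (fun H => hn fun n n1 n2 => ?_)
      (h.syl.isPGroup.to_le TS) BT (TS.trans h.syl.le) TR) fun n n1 n2 => ?_
  · obtain ⟨c, hc, m, hm, -, e⟩ := mem_CM.1 (H ⟨n1, n2⟩)
    exact ⟨c, hc, m, hm, e⟩
  · obtain ⟨c, hc, m, hm, -, e⟩ := mem_CM.1 (l.ovr B l.pB le_rfl (l.BS.trans l.SM) ⟨n1, n2⟩)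
    exact ⟨c, hc, m, hm, e⟩

theorem false (h : FD A G S) : False := by
  have good := step2 h.syl h.SM inf_le_left h.AS h.AG h.SA h.S_le
    (fun _ h1 h2 h3 h4 => h.loc_inv h1 h2 h3 h4) (fun _ h1 => h.loc_cz h1)
    fun _ _ _ _ _ _ _ _ _ l _ e => h.bigE l e
  obtain ⟨V', v'⟩ := h.vm
  refine end_false h.simple h.nc h.AG h.syl h.vV.le h.V_ne_bot h.vV.sq inf_le_right v'
    fun U hU g h1 h2 => ?_
  obtain ⟨c, hc, m, hm, -, e⟩ := mem_CM.1 (good U hU ⟨h1, h2⟩)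
  exact ⟨c, hc, m, hm, e⟩

end FD

/-- If every supplement meets `G` inside its derived subgroup, then `G` is solvable. -/
theorem solv_of_ds (hA : A ≤ normalizer (G : Set X)) (h : DS A G) : Group.IsSolvable G :=
  solv_of_dr (fun _ _ _ _ _ _ h => h.false) hA h.dr

end CfsgLib.Der
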