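import Cfsg.Agent.Lib.Der.Defs

/-! Transfer into an abelian section. -/

set_option autoImplicit false
set_option linter.unusedSectionVars false

open Subgroup Cfsg CfsgLib.LAE CfsgLib.ZN CfsgLib.MinS CfsgLib.Cop Module
open scoped commutatorElement

universe u

namespace CfsgLib.Der

variable {X : Type*} [Group X] [Finite X] {Y P K : Subgroup X} {b x : X}

theorem tr_top {G : Type*} [Group G] [Finite G] {H N : Subgroup G} {b : G} (hb : b ∈ _root_.commutator G)
    (hP : b ∈ H) (h1 : ⁅H, H⁆ ≤ N) (h2 : N ≤ H) (h3 : ∀ g, g ∉ H → g⁻¹ * b * g ∈ N) : b ∈ N := by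
  classical
  haveI : (N.subgroupOf H).Normal := ⟨fun n hn g => by
    simpa [commutatorElement_def, mem_subgroupOf] using mul_mem (h1 (commutator_mem_commutator g.2 n.2)) hn⟩
  letI : CommGroup (H ⧸ N.subgroupOf H) := { (inferInstance : Group _) with
    mul_comm := fun a c => by
      obtain ⟨a, rfl⟩ := QuotientGroup.mk_surjective a
      obtain ⟨c, rfl⟩ := QuotientGroup.mk_surjective c
      refine QuotientGroup.eq.2 ?_
      simpa [commutatorElement_def, mem_subgroupOf, mul_assoc] using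
        h1 (commutator_mem_commutator (inv_mem c.2) (inv_mem a.2)) }
  let ϕ : H →* H ⧸ N.subgroupOf H := QuotientGroup.mk' _
  have e1 : MonoidHom.transfer ϕ b = 1 := Abelianization.commutator_subset_ker _ hb
  have hall : ∀ g, g⁻¹ * b * g ∈ H := fun g => by
    by_cases hg : g ∈ H
    exacts [mul_mem (mul_mem (inv_mem hg) hP) hg, h2 (h3 g hg)]
  have fix : ∀ q : G ⧸ H, b⁻¹ • q = q := fun q => by
    obtain ⟨g, rfl⟩ := QuotientGroup.mk_surjective q
    exact QuotientGroup.eq.2 (by simpa using hall g)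
  let T : H.LeftTransversal := default
  have e2 : ∀ q : G ⧸ H, ((T.2.leftQuotientEquiv q : G) : G ⧸ H) = q := T.2.quotientGroupMk_leftQuotientEquiv
  rw [MonoidHom.transfer_def ϕ T, leftTransversals.diff] at e1
  simp only [smul_apply_eq_smul_apply_inv_smul, fix, smul_eq_mul, ← mul_assoc] at e1
  rw [Finset.prod_eq_single ((1 : G) : G ⧸ H)] at e1
  rotate_left
  · exact fun q _ hq => (QuotientGroup.eq_one_iff (N := N.subgroupOf H) _).2
      (h3 _ fun hg => hq ((e2 q).symm.trans (QuotientGroup.eq.2 (by simpa using hg))))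
  · simp
  have hg : (T.2.leftQuotientEquiv ((1 : G) : G ⧸ H) : G) ∈ H := by simpa using QuotientGroup.eq.1 (e2 (1 : G))
  have e3 : ϕ (⟨_, hg⟩⁻¹ * ⟨b, hP⟩ * ⟨_, hg⟩) = 1 := e1
  rw [map_mul, map_mul, map_inv, inv_mul_cancel_comm] at e3
  exact (QuotientGroup.eq_one_iff (N := N.subgroupOf H) _).1 e3

/-- PROOF: work in the group `Y` (b = ⟨b, _⟩, `⁅Y,Y⁆ ≤ Y`), H = P.subgroupOf Y, N = K.subgroupOf Y seen in H (normal, as
`⁅P,P⁆ ≤ K ≤ P`), φ : H →* H/N with H/N commutative.  `MonoidHom.transfer φ : Y →* H/N` kills `⁅Y,Y⁆`.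
`MonoidHom.transfer_eq_prod_quotient_orbitRel_zpowers_quot`: transfer b = ∏ over the ⟨b⟩-orbits q on Y/H of
φ(g⁻¹ b^n g), g = q.out.out, n = minimalPeriod.  In all cases g⁻¹ b g ∈ P, so n = 1; for g ∉ P the factor is 1;
g ∈ P happens for exactly one orbit (the coset 1, a fixed point) and there φ(g⁻¹ b g) = φ(b).  (Alternatively use
`MonoidHom.transfer_def` with a transversal: b fixes every coset gH, so transfer b = ∏_{q : Y/H} φ(g_q⁻¹ b g_q).) -/
theorem tr (hb : b ∈ ⁅Y, Y⁆) (hP : b ∈ P) (h1 : ⁅P, P⁆ ≤ K) (h2 : K ≤ P)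
    (h3 : ∀ g ∈ Y, g ∉ P → g⁻¹ * b * g ∈ K) : b ∈ K := by
  have k := tr_top (G := Y) (H := P.subgroupOf Y) (N := K.subgroupOf Y) (b := ⟨b, commutator_le_self Y hb⟩)
    (by
      rw [← map_subtype_commutator] at hb
      obtain ⟨c, hc, rfl⟩ := hb
      exact hc) hP
    (commutator_le.2 fun g hg n hn => h1 (commutator_mem_commutator hg hn)) (fun _ hx => h2 hx)
    fun g hg => h3 g g.2 hg
  exact k

/-- PROOF: `tr` with P = N(⟨x⟩), K = C(x) (≤ P; `⁅P,P⁆ ≤ K` since g x g⁻¹ = x^m, h x h⁻¹ = x^n commute: gh and hg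
act on x alike). -/
theorem trc (hb : b ∈ ⁅Y, Y⁆) (hn : b ∈ normalizer (zpowers x : Set X))
    (h : ∀ g ∈ Y, g ∉ normalizer (zpowers x : Set X) → Commute (g⁻¹ * b * g) x) : Commute b x := by
  have k : ∀ g ∈ normalizer (zpowers x : Set X), ∃ m : ℤ, g * x * g⁻¹ = x ^ m := fun g hg =>
    let ⟨m, e⟩ := (mem_normalizer_iff.1 hg x).1 (mem_zpowers x)
    ⟨m, e.symm⟩
  refine mem_centralizer_singleton_iff.1 (tr (K := centralizer {x}) hb hn (commutator_le.2 fun g hg c hc => ?_)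
    (fun g hg => ?_) fun g hg hn => mem_centralizer_singleton_iff.2 (h g hg hn))
  · obtain ⟨m, e⟩ := k _ (inv_mem hg)
    obtain ⟨n, e'⟩ := k _ (inv_mem hc)
    have e1 : (g * c)⁻¹ * x * (g * c)⁻¹⁻¹ = (c * g)⁻¹ * x * (c * g)⁻¹⁻¹ := by
      calc _ = c⁻¹ * (g⁻¹ * x * g⁻¹⁻¹) * c⁻¹⁻¹ := by group
        _ = g⁻¹ * (c⁻¹ * x * c⁻¹⁻¹) * g⁻¹⁻¹ := by
          rw [e, e', ← conj_zpow, ← conj_zpow, e, e', ← zpow_mul, ← zpow_mul, mul_comm]
        _ = _ := by group
    rw [mem_centralizer_singleton_iff, commutatorElement_def]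
    calc _ = g * c * ((c * g)⁻¹ * x * (c * g)⁻¹⁻¹) * (c * g)⁻¹ := by group
      _ = _ := by rw [← e1]; group
  · refine mem_normalizer_fintype ?_
    rintro _ ⟨m, rfl⟩
    exact ⟨m, by
      have c : Commute g x := mem_centralizer_singleton_iff.1 hg
      simp only [(c.zpow_right m).eq, mul_inv_cancel_right]⟩

end CfsgLib.Der
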