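import Cfsg.Agent.Lib.Der.Tb
import Cfsg.Agent.Lib.Der.Tr
import Cfsg.Agent.Lib.OFP.EndN

/-!
The configuration over the field with two elements does not occur if `S ≤ A'`.
-/

set_option autoImplicit false
set_option linter.unusedSectionVars false

namespace CfsgLib.Der

open Subgroup Cfsg CfsgLib.LAE CfsgLib.Push CfsgLib.Blocks CfsgLib.ZJ CfsgLib.OFP
open scoped commutatorElement
open Tb hiding actQ core2 core

variable {Γ : Type*} [Group Γ] [Finite Γ] {A G M S B Q D : Subgroup Γ} {a w k b c x y n g σ : Γ}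

theorem SD.tbq (h : SD G B Q a w k b) (hG : n ∈ 𝒩[G]) (hB : n ∈ 𝒩[B]) (fw : n * w * n⁻¹ = w)
    (hQ : n * a * n⁻¹ ∈ Q) : n * a * n⁻¹ = a ∨ n * a * n⁻¹ = a * w := by
  refine h.tbn hG hB (inv_mem_iff.1 (mem_normalizer_of_conjS_le (conjS_le_iff_forall.2 fun q hq => ?_))) fw
  refine h.toSm.mem_Q (nm (inv_mem hB) (h.QB hq)) ?_
  have e : ⁅q, n * a * n⁻¹⁆ = 1 := h.toBlk.comm_eq_one hq hQ (by
    rcases Cop.cf2_key h.toSm hB (h.QB hq) (left_mem_WW a w) with e | e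
    · rw [commutatorElement_def, e, mul_inv_cancel]; exact one_mem _
    · rw [commutatorElement_def, e, fw, (cm h.wc hQ).eq, mul_inv_cancel_right]; exact right_mem_WW a w)
  have := endN_comm' (commutatorElement_eq_one_iff_commute.1 e).symm
  simpa using this.symm

theorem SD.tbb (h : SD G B Q a w k (σ * a * σ⁻¹)) (σG : σ ∈ 𝒩[G]) (σB : σ ∈ 𝒩[B]) (σw : σ * w * σ⁻¹ = w)
    (hG : n ∈ 𝒩[G]) (hB : n ∈ 𝒩[B]) (fw : n * w * n⁻¹ = w) (hQ : n * a * n⁻¹ ∉ Q) :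
    n * a * n⁻¹ = σ * a * σ⁻¹ ∨ n * a * n⁻¹ = σ * a * σ⁻¹ * w := by
  have xB := nm hB (h.QB h.aQ)
  have bb : σ * a * σ⁻¹ * (σ * a * σ⁻¹) = 1 := by rw [conj_mul, h.aa]; simp
  have xx : n * a * n⁻¹ * (n * a * n⁻¹) = 1 := by rw [conj_mul, h.aa]; simp
  have hc : Commute (σ * a * σ⁻¹) (n * a * n⁻¹) := by
    obtain ⟨q, hq, e⟩ := h.toSm.bk_dec xB hQ
    obtain ⟨u, hu, d, hd, kd, rfl⟩ := h.toBlk.split hq
    have bd := h.bD d hd kd
    have ud : Commute d u := cm (h.toBlk.Wc hu) hd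
    have uu : u * u = 1 := by
      rcases h.toBlk.mem.1 hu with rfl | rfl | rfl | rfl
      exacts [mul_one 1, h.aa, h.ww, by rw [h.toBlk.comm.symm.mul_mul_mul_comm, h.aa, h.ww, mul_one]]
    rw [e] at xx ⊢
    have hb := h.toSm.bk_W h.bB hu
    have wd : Commute d w := cm h.wc hd
    generalize σ * a * σ⁻¹ = β at *
    rcases hb with e1 | e1
    · exact ((of_cj e1).mul_right bd).mul_right (Commute.refl β)
    · exfalso
      have e2 : w * (d * d) = 1 := by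
        calc w * (d * d) = u * (u * w) * (d * d) * (β * β) := by rw [bb, ← mul_assoc u, uu]; group
          _ = u * (β * u * β⁻¹) * (d * d) * (β * β) := by rw [e1]
          _ = u * (β * u * (β⁻¹ * (d * d) * β)) * β := by group
          _ = u * (β * u * (d * d)) * β := by
            rw [mul_assoc β⁻¹, ← (bd.mul_right bd).eq, inv_mul_cancel_left]
          _ = u * ((d * β) * u * d) * β := by
            rw [← bd.eq, mul_assoc β d u, ud.eq]; group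
          _ = 1 := by rw [← xx]; group
      exact h.w1 (h.toBlk.eq_one (right_mem_WW a w)
        (eq_inv_of_mul_eq_one_left e2 ▸ (kd.mul_right kd).inv_right))
  have e0 : σ⁻¹ * n * a * (σ⁻¹ * n)⁻¹ = σ⁻¹ * (n * a * n⁻¹) * σ := by group
  have := h.tbq (mul_mem (inv_mem σG) hG) (mul_mem (inv_mem σB) hB) (by
    calc σ⁻¹ * n * w * (σ⁻¹ * n)⁻¹ = σ⁻¹ * (n * w * n⁻¹) * σ := by group
      _ = w := by rw [fw]; nth_rewrite 1 [← σw]; group) (by
    rw [e0]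
    exact h.toSm.mem_Q (nm' σB xB) (endN_comm' hc).symm)
  rw [e0] at this
  rcases this with e | e
  · left
    calc n * a * n⁻¹ = σ * (σ⁻¹ * (n * a * n⁻¹) * σ) * σ⁻¹ := by group
      _ = _ := by rw [e]
  · right
    calc n * a * n⁻¹ = σ * (σ⁻¹ * (n * a * n⁻¹) * σ) * σ⁻¹ := by group
      _ = _ := by rw [e, ← conj_mul, σw]

/-- The case that `A` normalizes `B`. -/
theorem SD.false (h : SD G B Q a w k (σ * a * σ⁻¹)) (σA : σ ∈ A) (σw : σ * w * σ⁻¹ = w)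
    (AG : A ≤ 𝒩[G]) (AB : A ≤ 𝒩[B]) (hD : a ∈ ⁅A, A⁆) : False := by
  have aB := h.QB h.aQ
  have ia : a⁻¹ = a := inv_eq_of_mul_eq_one_right h.aa
  have bb : σ * a * σ⁻¹ * (σ * a * σ⁻¹) = 1 := by rw [conj_mul, h.aa]; simp
  have ib := inv_eq_of_mul_eq_one_right bb
  have cls : ∀ n ∈ A, n * w * n⁻¹ = w → (n * a * n⁻¹ = a ∨ n * a * n⁻¹ = a * w) ∨
      (n * a * n⁻¹ = σ * a * σ⁻¹ ∨ n * a * n⁻¹ = σ * a * σ⁻¹ * w) := fun n hn fw => by
    by_cases e : n * a * n⁻¹ ∈ Q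
    · exact .inl (h.tbq (AG hn) (AB hn) fw e)
    · exact .inr (h.tbb (AG σA) (AB σA) σw (AG hn) (AB hn) fw e)
  have kb : ∀ y ∈ B, y * (σ * a * σ⁻¹) * y⁻¹ = σ * a * σ⁻¹ ∨ y * (σ * a * σ⁻¹) * y⁻¹ = σ * a * σ⁻¹ * w :=
    fun y hy => by simpa only [σw] using Cop.cf2_key h.toSm (AB σA) hy (left_mem_WW a w)
  have cls' : ∀ n ∈ A, n * w * n⁻¹ = w → (n * (σ * a * σ⁻¹) * n⁻¹ = a ∨ n * (σ * a * σ⁻¹) * n⁻¹ = a * w) ∨
      (n * (σ * a * σ⁻¹) * n⁻¹ = σ * a * σ⁻¹ ∨ n * (σ * a * σ⁻¹) * n⁻¹ = σ * a * σ⁻¹ * w) := fun n hn fw => by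
    have := cls (n * σ) (mul_mem hn σA) (by
      calc n * σ * w * (n * σ)⁻¹ = n * (σ * w * σ⁻¹) * n⁻¹ := by group
        _ = w := by rw [σw, fw])
    rwa [show n * σ * a * (n * σ)⁻¹ = n * (σ * a * σ⁻¹) * n⁻¹ by group] at this
  have hba := h.ba
  have hbB := h.bB
  have hbw := h.toSm.bw
  have hs := h.toSm
  have aw := h.toBlk.comm
  generalize σ * a * σ⁻¹ = β at *
  have e1 : β * a = a * β * w := by
    rw [mul_inv_eq_iff_eq_mul.1 hba, mul_assoc, ← hbw.eq, mul_assoc]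
  have ic : (a * β)⁻¹ = a * β * w := by rw [mul_inv_rev, ia, ib, e1]
  have nc : ¬ Commute a β := fun e => hs.w1 (by rw [e.eq] at e1; exact (left_eq_mul.1 e1))
  have z1 : a * β ∈ zpowers (a * β) := mem_zpowers _
  have z2 : a * β * w ∈ zpowers (a * β) := ic ▸ inv_mem z1
  refine nc ?_
  have key : Commute a (a * β) := by
    refine trc hD (end1_norm_zpowers ?_) fun g hg hn => ?_
    · rw [show a * (a * β) * a⁻¹ = β * a by rw [← mul_assoc, hs.aa, one_mul, ia], e1]; exact z2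
    have hg' := inv_mem hg
    by_cases fw : g⁻¹ * w * g⁻¹⁻¹ = w
    · refine absurd (inv_mem_iff.1 (end1_norm_zpowers ?_)) hn
      have n1 : ¬ Commute (g⁻¹ * a * g⁻¹⁻¹) (g⁻¹ * β * g⁻¹⁻¹) := fun e => nc (by
        simpa [mul_assoc] using endN_comm g e)
      rw [← conj_mul]
      rcases cls _ hg' fw with (e | e) | (e | e) <;> rcases cls' _ hg' fw with (e' | e') | (e' | e') <;>
        rw [e, e'] at n1 ⊢
      · exact absurd (Commute.refl a) n1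
      · exact absurd ((Commute.refl a).mul_right aw) n1
      · exact z1
      · rw [← mul_assoc]; exact z2
      · exact absurd ((Commute.refl a).mul_left aw.symm) n1
      · exact absurd (Commute.refl _) n1
      · rw [mul_assoc, ← hbw.eq, ← mul_assoc]; exact z2
      · rw [hbw.symm.mul_mul_mul_comm, hs.ww, mul_one]; exact z1
      · rw [e1]; exact z2
      · rw [← mul_assoc, e1, mul_assoc, hs.ww, mul_one]; exact z1
      · exact absurd (Commute.refl β) n1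
      · exact absurd ((Commute.refl β).mul_right hbw) n1
      · rw [mul_assoc, ← aw.eq, ← mul_assoc, e1, mul_assoc, hs.ww, mul_one]; exact z1
      · rw [aw.symm.mul_mul_mul_comm, hs.ww, mul_one, e1]; exact z2
      · exact absurd ((Commute.refl β).mul_left hbw.symm) n1
      · exact absurd (Commute.refl _) n1
    · have xB := nm (AB hg') aB
      have cB := mul_mem aB hbB
      have k1 := Cop.cf2_key hs (AB hg') cB (left_mem_WW a w)
      have xw := hs.cw xB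
      have k2 : g⁻¹ * a * g⁻¹⁻¹ * (a * β) * (g⁻¹ * a * g⁻¹⁻¹)⁻¹ = a * β ∨
          g⁻¹ * a * g⁻¹⁻¹ * (a * β) * (g⁻¹ * a * g⁻¹⁻¹)⁻¹ = a * β * w := by
        rw [← conj_mul]
        rcases hs.bk_W xB (left_mem_WW a w) with e | e <;> rcases kb _ xB with e' | e' <;> rw [e, e']
        · exact .inl rfl
        · exact .inr (mul_assoc _ _ _).symm
        · exact .inr (by rw [mul_assoc, ← hbw.eq, mul_assoc])
        · exact .inl (by rw [hbw.symm.mul_mul_mul_comm, hs.ww, mul_one])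
      rw [← inv_inv g, inv_inv g⁻¹]
      have cw := hs.cw cB
      generalize g⁻¹ * a * g⁻¹⁻¹ = x at *
      generalize a * β = c at *
      rcases k2 with e | e
      · exact of_cj e
      · exfalso
        have e2 : c * x * c⁻¹ = x * w := by
          have e3 : x * c = c * w * x := mul_inv_eq_iff_eq_mul.1 e
          calc c * x * c⁻¹ = w * w * c * x * c⁻¹ := by rw [hs.ww, one_mul]
            _ = w * (w * c * x) * c⁻¹ := by group
            _ = x * w := by rw [← cw.eq, ← e3, xw.eq]; group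
        rw [e2] at k1
        rcases k1 with e4 | e4
        · exact hs.w1 (mul_eq_left.1 e4)
        · exact fw (mul_left_cancel e4).symm
  have := (Commute.refl a).mul_right key
  rwa [← mul_assoc, hs.aa, one_mul] at this

/-- Operators normalizing `C_S(W)` and fixing `w` normalize `W`. -/
theorem nq_of (h : Sm2 G M S B Q a w k b) (σS : σ ∈ S) (hσ : σ ∈ 𝒩[B]) (hC : ¬ conjS σ (WW a w) ≤ Q)
    (hG : n ∈ 𝒩[G]) (hS : n ∈ 𝒩[S]) (hn : n ∈ 𝒩[S ⊓ 𝒞[WW a w]]) (fw : n * w * n⁻¹ = w) :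
    n * a * n⁻¹ = a ∨ n * a * n⁻¹ = a * w := by
  obtain ⟨-, h2, h3, h4⟩ := Cop.cf2_swap h.toSm hσ hC
  obtain ⟨aG, wG, bG, σG, c, -⟩ := h.exists_ed σS hσ hC
  obtain ⟨k', h', hk, -⟩ := c.q1
  have hf := G.subtype_injective
  have QG : Q ≤ G := h.QB.trans (h.BS.trans h.syl.le)
  have e : (S.subgroupOf G ⊓ 𝒞[WW (⟨a, aG⟩ : G) ⟨w, wG⟩]).map G.subtype = S ⊓ 𝒞[WW a w] := by
    refine le_antisymm ?_ fun x hx => ⟨⟨x, h.syl.le hx.1⟩, ⟨hx.1, mem_cent_WW.2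
      ⟨Cop.cf2_comm hf (mem_cent_WW.1 hx.2).1, Cop.cf2_comm hf (mem_cent_WW.1 hx.2).2⟩⟩, rfl⟩
    rintro _ ⟨x, hx, rfl⟩
    exact ⟨hx.1, mem_cent_WW.2 ⟨(mem_cent_WW.1 hx.2).1.map G.subtype, (mem_cent_WW.1 hx.2).2.map G.subtype⟩⟩
  have k1 : (k' : Γ) ∈ 𝒩[S ⊓ 𝒞[WW a w]] :=
    e ▸ le_normalizer_map G.subtype (mem_map_of_mem G.subtype h'.kN)
  have k2 := Cop.cf2_cent' (f := G.subtype) (cent_of_act hk)
  rw [map_subgroupOf_eq_of_le QG] at k2
  have QQ : Q ≤ S ⊓ 𝒞[WW a w] := le_inf (h.QB.trans h.BS) (le_centralizer_iff.1 h.toBlk.Wc)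
  have eB := h.hm _ (S ⊓ 𝒩[S ⊓ 𝒞[WW a w]]) k' QQ inf_le_left k'.2 k1 k2 h.syl.isPGroup.to_inf_left
    (inf_le_left.trans h.syl.le) (le_inf h.BS (le_normalizer_inf (h.BS.trans le_normalizer)
      (le_normalizer_centralizer h.toSm.BW))) inf_le_right
  have nB : n ∈ 𝒩[B] := by
    rw [← eB]
    refine normalizer_le_normalizer_bau _ (mem_normalizer_fintype fun y hy => ⟨nm hS hy.1, ?_⟩)
    exact Subgroup.mul_mem _ (Subgroup.mul_mem _ hn hy.2) (Subgroup.inv_mem _ hn)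
  refine (sd_of h h2 h3 h4).tbn hG nB (mem_normalizer_of_conjS_le (conjS_le_iff_forall.2 fun x hx =>
    h.toSm.mem_Q (nm nB (h.QB hx)) (mem_cent_WW.1 (nm hn (QQ hx)).2).1.symm)) fw

/-- The stabilizer of `w` normalizes `⟨x⟩`. -/
theorem q2_tw_norm (h : Tw S D a w c x) (AS : A ≤ 𝒩[S]) (SA : S ≤ A)
    (nq : ∀ n ∈ A, n ∈ 𝒩[S ⊓ 𝒞[WW a w]] → n * w * n⁻¹ = w → n * a * n⁻¹ = a ∨ n * a * n⁻¹ = a * w)
    (hg : g ∈ A) (hw : g * w * g⁻¹ = w) : g ∈ 𝒩[zpowers x] := by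
  by_cases hb : g ∈ h.big
  · obtain ⟨s, s1, s2, u, ⟨u1, u2, u3⟩, rfl⟩ := hb
    have uA : u ∈ A := by simpa using mul_mem (inv_mem (SA s1)) hg
    refine mul_mem (h.nx s s1 s2) (end1_norm_zpowers ?_)
    have h' := h.conj' u1 u2
    have un : u ∈ 𝒩[S ⊓ 𝒞[WW a w]] := inv_mem_iff.1 (mem_normalizer_fintype fun y hy => by
      obtain ⟨y1, y2⟩ := mem_cent_WW.1 hy.2
      rw [inv_inv]
      exact ⟨nm' u1 hy.1, mem_cent_WW.2 ⟨endN_comm' (h.trans h' hy.1 y2.symm u3 y1),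
        endN_comm' (u2.symm ▸ y2)⟩⟩)
    obtain ⟨τ, t1, t2, t3⟩ := h.ex
    have t4 : Commute (u * τ * u⁻¹) w := u2 ▸ endN_comm u t2
    have t5 := h.ya _ (nm u1 t1) t4
    have e : u * x * u⁻¹ = (u * a * u⁻¹)⁻¹ * (u * τ * u⁻¹ * (u * a * u⁻¹) * (u * τ * u⁻¹)⁻¹) := by
      calc u * x * u⁻¹ = u * (a⁻¹ * (τ * a * τ⁻¹)) * u⁻¹ := by rw [t3]; group
        _ = _ := by group
    rw [e]
    rcases nq u uA un u2 with e1 | e1 <;> rw [e1]
    · exact t5
    · have wx := h.wx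
      rw [← conj_mul, cj t4, mul_inv_rev, mul_assoc, ← mul_assoc a⁻¹]
      exact mul_mem (inv_mem wx) (mul_mem t5 wx)
  · obtain ⟨i, e⟩ := h.odd_of_not (AS hg) hw hb
    have h' := h.conj' (AS hg) hw
    have e1 := h'.ya a h.aS h.aw
    have e2 : (g * a * g⁻¹)⁻¹ * (a * (g * a * g⁻¹) * a⁻¹) = (x ^ (2 * i + 1))⁻¹ := by
      calc _ = (g * a * g⁻¹ * a * (g * a * g⁻¹)⁻¹) * a⁻¹ := by rw [h'.ia]; group
        _ = (a * x * a⁻¹) ^ (2 * i + 1) := by rw [e, conj_zpow]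
        _ = _ := by rw [h.ax, inv_zpow]
    rw [e2, inv_mem_iff] at e1
    obtain ⟨m, hm⟩ := end1_odd_inv (two_of_mem h.pS h.xS) (k := 2 * i + 1) ⟨i, rfl⟩
    have e3 := zpow_mem e1 m
    rw [← zpow_mul, hm] at e3
    refine inv_mem_iff.1 (end1_norm_zpowers ?_)
    have := endN_zp e3 g⁻¹
    rwa [show g⁻¹ * (g * x * g⁻¹) * g⁻¹⁻¹ = x by group] at this

/-- The other conjugates of `x` are centralized by `a`. -/
theorem q2_tw_comm (h : Tw S D a w c x) (h1 : ∀ g ∈ 𝒩[S], Commute a (g * w * g⁻¹)) (hg : g ∈ 𝒩[S])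
    (hne : g * w * g⁻¹ ≠ w) : Commute a (g * x * g⁻¹) := by
  have h' := h.conj hg
  obtain ⟨τ, t1, -, t3⟩ := h.ex
  have c1 : Commute a (g⁻¹ * w * g) := by simpa using h1 _ (inv_mem hg)
  have c2 : Commute (a * x) (g⁻¹ * w * g) := by
    have := endN_comm τ (h1 _ (mul_mem (inv_mem (le_normalizer t1)) (inv_mem hg)))
    rw [t3] at this
    convert this using 1
    group
  have c3 : Commute x (g⁻¹ * w * g) := by simpa using c1.inv_left.mul_left c2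
  have c4 : Commute (g * x * g⁻¹) w := by simpa [mul_assoc] using endN_comm g c3
  have h3 : a⁻¹ * (g * x * g⁻¹ * a * (g * x * g⁻¹)⁻¹) ∈ zpowers (g * x * g⁻¹) := by
    rw [← mul_assoc, ← mul_assoc]
    exact mul_mem (nm' (h'.nx a h.aS (h1 g hg)) (mem_zpowers _)) (inv_mem (mem_zpowers _))
  have h4 := h.eq_one (h.ya _ h'.xS c4) h3 fun e =>
    (end1_inv_unique e h'.wx h.ww h'.ww h'.w1).elim h.w1 fun e => hne e.symm
  exact (mul_inv_eq_iff_eq_mul.1 (inv_mul_eq_one.1 h4).symm).symm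

/-- The configuration over the field with two elements does not occur. -/
theorem small_false (h : Sm2 G M S B Q a w k b) (AG : A ≤ 𝒩[G]) (AS : A ≤ 𝒩[S]) (SA : S ≤ A)
    (hD : S ≤ ⁅A, A⁆) (inv : ∀ C ≤ S, C ≠ ⊥ → S ≤ 𝒩[C] → A ≤ 𝒩[C] → G ⊓ 𝒩[C] ≤ CM M C) : False := by
  have QS := h.QB.trans h.BS
  rcases h.cases with ⟨σ, σS, hσ, hC⟩ | ⟨e, -⟩
  · obtain ⟨-, -, -, -, -, D, hE⟩ := h.exists_ed σS hσ hC
    obtain ⟨x, t⟩ := hE.exists_tw
    have key : Commute a x := by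
      refine trc (hD t.aS) (t.nx a t.aS t.aw) fun g hg hn => ?_
      have := q2_tw_comm t hE.conj_comm.2 (AS hg) fun e => hn (q2_tw_norm t AS SA
        (fun n n1 n2 n3 => nq_of h σS hσ hC (AG n1) (AS n1) n2 n3) hg e)
      exact (endN_comm' this.symm).symm
    obtain ⟨m, hm⟩ := mem_zpowers_iff.1 t.cx
    exact t.ne_inv (by rw [← t.ac, ← hm, cj (key.zpow_right m)])
  · have AB : A ≤ 𝒩[B] := by
      rw [← e]
      exact AS.trans (normalizer_le_normalizer_bau S)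
    by_cases h2 : ∀ σ ∈ A, conjS σ (WW a w) ≤ Q
    · obtain ⟨C, c1, c2, c3, c4⟩ := Cop.cf2_core h.toSm AB h2
      exact h.bad C c1 c2 c3 (h.BS.trans (SA.trans c4)) (inv C (c2.trans QS)
        (fun e => h.w1 (mem_bot.1 (e ▸ c1 (right_mem_WW _ _)))) (SA.trans c4) c4)
    · push Not at h2
      obtain ⟨σ, hσ, hC⟩ := h2
      obtain ⟨h1, h2, h3, h4⟩ := Cop.cf2_swap h.toSm (AB hσ) hC
      exact (sd_of h h2 h3 h4).false hσ h1 AG AB (hD (QS h.aQ))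

end CfsgLib.Der
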