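import Cfsg.Agent.Lib.OFP.T2Gen

/-!
The `q = 2` configuration: conjugates of the block under operators normalizing `G`.
-/

set_option autoImplicit false
set_option linter.unusedSectionVars false

namespace CfsgLib.Der

open Subgroup Cfsg CfsgLib.LAE CfsgLib.Push CfsgLib.Blocks CfsgLib.ZJ CfsgLib.OFP
open scoped commutatorElement
open Tb hiding actQ core2 core

variable {Γ : Type*} [Group Γ]

/-- The configuration inside `G` with `b` centralizing `D = C_Q(k)`. -/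
structure SD (G B Q : Subgroup Γ) (a w k b : Γ) : Prop extends Sm B Q a w k b where
  BG : B ≤ G
  kG : k ∈ G
  bD : ∀ d ∈ Q, Commute k d → Commute b d
  wca : ∀ H : Subgroup Γ, H ≤ 𝒩[Q] → B ≤ H → (∀ x ∈ H, P2 Q x) → ∀ g ∈ G, conjS g B ≤ H →
    ∃ c ∈ 𝒞[Q], conjS c (conjS g B) = B

variable [Finite Γ] {G M S B Q : Subgroup Γ} {a w k b b' x y n a' k' g e γ σ : Γ}

theorem sd_of (h : Sm2 G M S B Q a w k b) (h1 : b' ∈ B) (h2 : b' ∉ Q)
    (bD : ∀ d ∈ Q, Commute k d → Commute b' d) : SD G B Q a w k b' := by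
  have h' := h.toSm.change h1 h2
  have BG : B ≤ G := h.BS.trans h.syl.le
  have QG : Q ≤ G := h.QB.trans BG
  refine ⟨h', BG, h.kG, bD, fun H HN BH hp g hg hc => ?_⟩
  have hf := G.subtype_injective
  have eB : (B.subgroupOf G).map G.subtype = B := map_subgroupOf_eq_of_le BG
  have eQ : (Q.subgroupOf G).map G.subtype = Q := map_subgroupOf_eq_of_le QG
  have ho : Odd (Nat.card G.subtype.ker) := by rw [ker_subtype, card_bot]; exact odd_one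
  have s : Sm (B.subgroupOf G) (Q.subgroupOf G) ⟨a, QG h.aQ⟩ ⟨w, QG h.wQ⟩ ⟨k, h.kG⟩ ⟨b', BG h1⟩ :=
    Cop.cf2_sm hf (by rw [eB, eQ]; exact h')
  have hq : HQ (B.subgroupOf G) (Q.subgroupOf G) := fun T pT t1 t2 => by
    refine map_injective hf ?_
    rw [sec_bau ho pT, eB]
    exact h.hm Q _ k le_rfl (h.QB.trans h.BS) h.kG h.kN (by rw [inv_mul_cancel]; exact one_mem _)
      (pT.map _) (map_subtype_le T) (eB ▸ map_mono t1)
      (eQ ▸ (map_mono t2).trans (le_normalizer_map G.subtype))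
  obtain ⟨c, c1, c2⟩ := (s.wcaA hq (H := H.subgroupOf G)
    (fun x hx => Cop.cf2_norm hf (by rw [eQ]; exact HN hx)) (fun x hx => BH hx) fun x hx => by
      obtain ⟨m, hm⟩ := hp x hx
      exact ⟨m, Cop.cf2_cent hf (by rw [eQ]; exact hm)⟩).2 ⟨g, hg⟩
    (conjS_le_iff_forall.2 fun x hx => hc (conj_mem_conjS.2 hx))
  have c3 := Cop.cf2_cent' (f := G.subtype) c1
  rw [eQ] at c3
  refine ⟨c, c3, ?_⟩
  refine le_antisymm (conjS_le_iff_forall.2 fun x hx => ?_) fun x hx => ?_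
  · obtain ⟨z, hz, rfl⟩ := exists_of_mem_conjS hx
    have : c * ((⟨g, hg⟩ : G) * ⟨z, BG hz⟩ * (⟨g, hg⟩ : G)⁻¹) * c⁻¹ ∈ B.subgroupOf G :=
      c2 ▸ conj_mem_conjS.2 (conj_mem_conjS.2 hz)
    exact this
  · have : (⟨x, BG hx⟩ : G) ∈ conjS c (conjS ⟨g, hg⟩ (B.subgroupOf G)) := c2.symm ▸ hx
    have h3 := mem_conjS.1 (mem_conjS.1 this)
    exact mem_conjS.2 (mem_conjS.2 h3)

theorem SD.actQ (h : SD G B Q a w k b) (hx : x ∈ Q) : b * x * b⁻¹ = x ∨ b * x * b⁻¹ = w * x := by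
  obtain ⟨u, hu, d, hd, hc, rfl⟩ := h.toBlk.split hx
  have e1 : b * (u * d) * b⁻¹ = b * u * b⁻¹ * d := by
    rw [← mul_assoc, mul_assoc (b * u), ← (h.bD d hd hc).inv_left.eq, ← mul_assoc]
  have hw := cj h.toSm.bw
  have hc := h.toBlk.comm.eq
  rw [e1]
  rcases h.toBlk.mem.1 hu with hu | hu | hu | hu <;> rw [hu]
  · left; simp
  · right; rw [h.ba, hc, mul_assoc]
  · left; rw [hw]
  · right; rw [← conj_mul, h.ba, hw, ← mul_assoc, ← mul_assoc, ← hc]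

theorem SD.core2 (h : SD G B Q a w k b) (gG : g ∈ G) (hg : g ∈ 𝒩[Q]) (hb : Commute b (g * w * g⁻¹)) : g * w * g⁻¹ = w := by
  set v := g * w * g⁻¹ with hv
  have vv : v * v = 1 := by rw [hv, conj_mul, h.ww]; simp
  have vc : v ∈ 𝒞[Q] := nc hg h.wc
  have vw : Commute v w := (cm vc h.wQ).symm
  have QH : Q ≤ HH Q v w vv := fun y hy =>
    ⟨y, le_normalizer hy, cj (cm vc hy), Or.inl (cj (cm h.wc hy)), hy, fun x _ => ⟨1, one_mem _, (one_mul _).symm⟩⟩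
  have bN := h.toSm.QN h.bB
  have bH : b ∈ HH Q v w vv := ⟨1, bN, cj hb, Or.inl (cj h.toSm.bw), one_mem _, fun x hx => by
    rcases h.actQ hx with e | e
    · exact ⟨1, one_mem _, by simpa using e⟩
    · exact ⟨w, right_mem_WW _ _, by simpa using e⟩⟩
  have act3 : ∀ x ∈ Q, g * b * g⁻¹ * x * (g * b * g⁻¹)⁻¹ = x ∨ g * b * g⁻¹ * x * (g * b * g⁻¹)⁻¹ = v * x :=
    fun x hx => by
      rw [show g * b * g⁻¹ * x * (g * b * g⁻¹)⁻¹ = g * (b * (g⁻¹ * x * g) * b⁻¹) * g⁻¹ by group]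
      rcases h.actQ (nm' hg hx) with e | e <;> rw [e]
      · left; group
      · right; rw [hv]; group
  have b3H : g * b * g⁻¹ ∈ HH Q v w vv := ⟨1, mul_mem (mul_mem hg bN) (inv_mem hg), by
    rw [hv, show g * b * g⁻¹ * (g * w * g⁻¹) * (g * b * g⁻¹)⁻¹ = g * (b * w * b⁻¹) * g⁻¹ by group, cj h.toSm.bw],
    act3 w h.wQ, one_mem _, fun x hx => by
      rcases act3 x hx with e | e
      · exact ⟨1, one_mem _, by rw [e]; simp⟩
      · exact ⟨v, left_mem_WW _ _, by rw [e]; simp⟩⟩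
  have BH : B ≤ HH Q v w vv := fun y hy => by
    rcases h.idx y hy with e | e
    · exact QH e
    · simpa using mul_mem (QH e) (inv_mem bH)
  have gBH : conjS g B ≤ HH Q v w vv := conjS_le_iff_forall.2 fun y hy => by
    rcases h.idx y hy with e | e
    · exact QH (nm hg e)
    · rw [show g * y * g⁻¹ = g * (y * b) * g⁻¹ * (g * b * g⁻¹)⁻¹ by group]
      exact mul_mem (QH (nm hg e)) (inv_mem b3H)
  obtain ⟨c, hc, e⟩ := h.wca (HH Q v w vv) (fun y ⟨_, r⟩ => r.yN) BH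
    (fun y ⟨_, r⟩ => r.p2 vv h.ww vw (h.pB.to_le h.QB)) g gG gBH
  have hB : c * (g * b * g⁻¹) * c⁻¹ ∈ B := by
    rw [← e]; exact conj_mem_conjS.2 (conj_mem_conjS.2 (e ▸ h.bB))
  have x0Q := nm hg h.aQ
  have x0c := nc hg h.ac
  have vQ : v ∈ Q := nm hg h.wQ
  have e1 : c * (g * b * g⁻¹) * c⁻¹ * (g * a * g⁻¹) * (c * (g * b * g⁻¹) * c⁻¹)⁻¹ = v * (g * a * g⁻¹) := by
    calc _ = c * (g * b * g⁻¹ * (c⁻¹ * (g * a * g⁻¹) * c⁻¹⁻¹) * (g * b * g⁻¹)⁻¹) * c⁻¹ := by group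
      _ = c * (g * (b * a * b⁻¹) * g⁻¹) * c⁻¹ := by rw [cj (cm hc x0Q).symm.inv_left]; group
      _ = c * (v * (g * a * g⁻¹)) * c⁻¹ := by rw [h.ba, h.toBlk.comm.eq, conj_mul]
      _ = _ := cj (cm hc (mul_mem vQ x0Q)).symm
  have v1 : v ≠ 1 := fun e => h.w1 (by simpa [hv] using e)
  rcases actB h.toSm hB x0c with e2 | e2 <;> rw [e1] at e2
  · exact absurd (mul_eq_right.1 e2) v1
  · rcases h.actQ x0Q with e3 | e3 <;> rw [e3] at e2
    · exact absurd (mul_eq_right.1 e2) v1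
    · exact mul_right_cancel e2

theorem SD.core (h : SD G B Q a w k b) (γG : γ ∈ G) (hγ : γ ∈ 𝒩[Q]) (eQ : e ∈ Q) (ee : e * e = 1) (γe : Commute γ e)
    (be : Commute b e) (h1 : γ * w * γ⁻¹ = a * e * w)
    (h2 : b * (γ⁻¹ * w * γ) * b⁻¹ = γ⁻¹ * w * γ * w) : e = 1 := by
  have ae : Commute e a := cm h.ac eQ
  have f1 : γ * b * γ⁻¹ * e * (γ * b * γ⁻¹)⁻¹ = e := cj ((γe.mul_left be).mul_left γe.inv_left)
  have f2 : γ * b * γ⁻¹ * (a * e * w) * (γ * b * γ⁻¹)⁻¹ = a * e * w := by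
    rw [← h1, show γ * b * γ⁻¹ * (γ * w * γ⁻¹) * (γ * b * γ⁻¹)⁻¹ = γ * (b * w * b⁻¹) * γ⁻¹ by group, cj h.toSm.bw]
  have f3 : γ * b * γ⁻¹ * w * (γ * b * γ⁻¹)⁻¹ = w * (a * e * w) := by
    rw [← h1, show γ * b * γ⁻¹ * w * (γ * b * γ⁻¹)⁻¹ = γ * (b * (γ⁻¹ * w * γ) * b⁻¹) * γ⁻¹ by group, h2]
    group
  have f4 : a = a * e * w * w * e := by rw [mul_assoc (a * e), h.ww, mul_one, mul_assoc, ee, mul_one]
  have f5 : γ * b * γ⁻¹ * k * w * (γ * b * γ⁻¹ * k)⁻¹ = w * e := by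
    calc _ = γ * b * γ⁻¹ * (k * w * k⁻¹) * (γ * b * γ⁻¹)⁻¹ := by group
      _ = γ * b * γ⁻¹ * (a * e * w * w * e) * (γ * b * γ⁻¹)⁻¹ := by rw [h.kw, ← f4]
      _ = a * e * w * (w * (a * e * w)) * e := by rw [← conj_mul, ← conj_mul, f1, f2, f3]
      _ = a * e * (w * w) * a * e * w * e := by group
      _ = a * (e * a) * e * w * e := by rw [h.ww]; group
      _ = a * a * (e * e) * w * e := by rw [ae.eq]; group
      _ = w * e := by rw [h.aa, ee]; group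
  have := h.core2 (mul_mem (mul_mem (mul_mem γG (h.BG h.bB)) (inv_mem γG)) h.kG)
    (mul_mem (mul_mem (mul_mem hγ (h.toSm.QN h.bB)) (inv_mem hγ)) h.kN)
    (by rw [f5]; exact h.toSm.bw.mul_right be)
  rw [f5] at this
  exact mul_eq_left.1 this

theorem SD.tb (h : SD G B Q a w k b) (kG : k' ∈ G) (h' : Blk Q a' w k') (ba : b * a' * b⁻¹ = a' * w)
    (hD : ∀ d ∈ Q, d ∈ 𝒞[Q] → Commute k' d → Commute b d) : a' = a ∨ a' = a * w := by
  obtain ⟨u, hu, e, eQ, ke, hz⟩ := h'.split (mul_mem h'.aQ h.aQ)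
  have he : e = u⁻¹ * (a' * a) := by rw [hz]; group
  have be : Commute b e := hD e eQ (he ▸ mul_mem (inv_mem (h'.Wc hu)) (mul_mem h'.ac h.ac)) ke
  have aw := h.toBlk.comm
  have aa' : Commute a' a := cm h.ac h'.aQ
  have a'w := h'.comm
  have bw := cj h.toSm.bw
  have bz : b * (a' * a) * b⁻¹ = a' * a := by
    rw [← conj_mul, ba, h.ba, mul_assoc, ← mul_assoc w, ← aw.eq, mul_assoc a, h.ww, mul_one]
  have bu : b * u * b⁻¹ = u := by
    rw [hz, ← conj_mul, cj be] at bz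
    exact mul_right_cancel bz
  have i1 : k'⁻¹ * w * k' = a' * w := by
    have := h'.kaw
    calc k'⁻¹ * w * k' = k'⁻¹ * (k' * (a' * w) * k'⁻¹) * k' := by rw [this]
      _ = _ := by group
  have i2 : k'⁻¹ * (a' * w) * k' = a' := by
    calc k'⁻¹ * (a' * w) * k' = k'⁻¹ * (k' * a' * k'⁻¹) * k' := by rw [h'.ka]
      _ = _ := by group
  have ia : a⁻¹ = a := inv_eq_of_mul_eq_one_right h.aa
  have iw : w⁻¹ = w := inv_eq_of_mul_eq_one_right h.ww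
  have zz : a' * a * (a' * a) = 1 := by rw [aa'.symm.mul_mul_mul_comm, h'.aa, h.aa, one_mul]
  rcases h'.mem.1 hu with hu | hu | hu | hu <;> rw [hu] at bu he
  · rw [inv_one, one_mul] at he
    have := h.core (mul_mem kG kG) (mul_mem h'.kN h'.kN) eQ (by rw [he, zz]) (ke.mul_left ke) be
      (by rw [show k' * k' * w * (k' * k')⁻¹ = k' * (k' * w * k'⁻¹) * k'⁻¹ by group, h'.kw, h'.ka, he, aa'.eq,
        ← mul_assoc, h.aa, one_mul])
      (by rw [show (k' * k')⁻¹ * w * (k' * k') = k'⁻¹ * (k'⁻¹ * w * k') * k' by group, i1, i2, ba])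
    rw [he] at this
    exact Or.inl (by rw [eq_inv_of_mul_eq_one_left this, ia])
  · rw [ba] at bu
    exact absurd (mul_eq_left.1 bu) h.w1
  · rw [iw] at he
    have wz : Commute w (a' * a) := a'w.symm.mul_right aw.symm
    have := h.core kG h'.kN eQ (by rw [he, wz.symm.mul_mul_mul_comm, h.ww, zz, one_mul]) ke be
      (by rw [h'.kw, he, wz.eq, aa'.eq, ← mul_assoc, ← mul_assoc, h.aa, one_mul, mul_assoc, h.ww, mul_one])
      (by rw [i1, ← conj_mul, ba, bw])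
    rw [he, wz.eq, mul_assoc] at this
    exact Or.inr (by rw [eq_inv_of_mul_eq_one_left this, mul_inv_rev, ia, iw, aw.eq])
  · rw [← conj_mul, ba, bw] at bu
    exact absurd (mul_eq_left.1 bu) h.w1

theorem SD.tbn (h : SD G B Q a w k b) (hG : n ∈ 𝒩[G]) (hB : n ∈ 𝒩[B]) (hQ : n ∈ 𝒩[Q])
    (fw : n * w * n⁻¹ = w) :
    n * a * n⁻¹ = a ∨ n * a * n⁻¹ = a * w := by
  have h' := h.toBlk.conj n
  rw [mem_normalizer_iff_conjS.1 hQ, fw] at h'
  have b1 := nm' hB h.bB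
  have b2 : n⁻¹ * b * n ∉ Q := fun e => h.bQ (by simpa [mul_assoc] using nm hQ e)
  refine h.tb (nm hG h.kG) h' ?_ fun d hd dc kd => of_cj ?_
  · rw [show b * (n * a * n⁻¹) * b⁻¹ = n * (n⁻¹ * b * n * a * (n⁻¹ * b * n)⁻¹) * n⁻¹ by group,
      h.toSm.conj_a b1 b2, ← conj_mul, fw]
  · have d1 := nm (inv_mem hQ) hd
    have d2 := nc (inv_mem hQ) dc
    have d3 : Commute k (n⁻¹ * d * n⁻¹⁻¹) := of_cj (by
      rw [show k * (n⁻¹ * d * n⁻¹⁻¹) * k⁻¹ = n⁻¹ * (n * k * n⁻¹ * d * (n * k * n⁻¹)⁻¹) * n⁻¹⁻¹ by group, cj kd])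
    have d4 : n⁻¹ * b * n * (n⁻¹ * d * n⁻¹⁻¹) * (n⁻¹ * b * n)⁻¹ = n⁻¹ * d * n⁻¹⁻¹ := by
      rcases actB h.toSm b1 d2 with e | e
      · exact e
      · rw [e, cj (h.bD _ d1 d3)]
    calc b * d * b⁻¹ = n * (n⁻¹ * b * n * (n⁻¹ * d * n⁻¹⁻¹) * (n⁻¹ * b * n)⁻¹) * n⁻¹ := by group
      _ = d := by rw [d4]; group

end CfsgLib.Der
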