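import Cfsg.Agent.Lib.Cop.Cf2
import Cfsg.Agent.Lib.Der.Tb

/-! The field with two elements: uniqueness of the block. -/

set_option autoImplicit false
set_option linter.unusedSectionVars false

namespace CfsgLib.Der

open Subgroup Cfsg CfsgLib.LAE CfsgLib.Push CfsgLib.Blocks CfsgLib.ZJ CfsgLib.OFP CfsgLib.Cop
open scoped commutatorElement

universe u

variable {X : Type*} [Group X] [Finite X] {G B Q : Subgroup X} {a w k b n : X}

theorem q2a_sd (h : Sm B Q a w k b) (bD : ∀ d ∈ Q, Commute k d → Commute b d) (BG : B ≤ G) (kG : k ∈ G)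
    (hq : ∀ T : Subgroup X, IsPGroup 2 T → T ≤ G → B ≤ T → T ≤ 𝒩[Q] → bau 2 T = B) : SD G B Q a w k b := by
  have QG : Q ≤ G := h.QB.trans BG
  refine ⟨h, BG, kG, bD, fun H HN BH hp g hg hc => ?_⟩
  have hf := G.subtype_injective
  have eB : (B.subgroupOf G).map G.subtype = B := map_subgroupOf_eq_of_le BG
  have eQ : (Q.subgroupOf G).map G.subtype = Q := map_subgroupOf_eq_of_le QG
  have ho : Odd (Nat.card G.subtype.ker) := by rw [ker_subtype, card_bot]; exact odd_one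
  have s : Sm (B.subgroupOf G) (Q.subgroupOf G) ⟨a, QG h.aQ⟩ ⟨w, QG h.wQ⟩ ⟨k, kG⟩ ⟨b, BG h.bB⟩ :=
    Cop.cf2_sm hf (by rw [eB, eQ]; exact h)
  have hq' : HQ (B.subgroupOf G) (Q.subgroupOf G) := fun T pT t1 t2 => by
    refine map_injective hf ?_
    rw [sec_bau ho pT, eB]
    exact hq _ (pT.map _) (map_subtype_le T) (eB ▸ map_mono t1)
      (eQ ▸ (map_mono t2).trans (le_normalizer_map G.subtype))
  obtain ⟨c, c1, c2⟩ := (s.wcaA hq' (H := H.subgroupOf G)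
    (fun x hx => Cop.cf2_norm hf (by rw [eQ]; exact HN hx)) (fun x hx => BH hx) fun x hx => by
      obtain ⟨m, hm⟩ := hp x hx
      exact ⟨m, Cop.cf2_cent hf (by rw [eQ]; exact hm)⟩).2 ⟨g, hg⟩
    (conjS_le_iff_forall.2 fun x hx => hc (conj_mem_conjS.2 hx))
  have c3 := Cop.cf2_cent' (f := G.subtype) c1
  rw [eQ] at c3
  refine ⟨c, c3, ?_⟩
  refine le_antisymm (conjS_le_iff_forall.2 fun x hx => ?_) fun x hx => ?_
  · obtain ⟨z, hz, rfl⟩ := exists_of_mem_conjS hx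
    have : c * ((⟨g, hg⟩ : G) * ⟨z, BG hz⟩ * (⟨g, hg⟩ : G)⁻¹) * c⁻¹ ∈ B.subgroupOf G :=
      c2 ▸ conj_mem_conjS.2 (conj_mem_conjS.2 hz)
    exact this
  · have : (⟨x, BG hx⟩ : G) ∈ conjS c (conjS ⟨g, hg⟩ (B.subgroupOf G)) := c2.symm ▸ hx
    have h3 := mem_conjS.1 (mem_conjS.1 this)
    exact mem_conjS.2 (mem_conjS.2 h3)

/-- The block through `w` is unique up to `a ↦ a w`. -/
theorem tbX (h : Sm B Q a w k b) (bD : ∀ d ∈ Q, Commute k d → Commute b d) (BG : B ≤ G) (kG : k ∈ G)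
    (hq : ∀ T : Subgroup X, IsPGroup 2 T → T ≤ G → B ≤ T → T ≤ 𝒩[Q] → bau 2 T = B)
    (nG : n ∈ 𝒩[G]) (nB : n ∈ 𝒩[B]) (nQ : n ∈ 𝒩[Q]) (nw : n * w * n⁻¹ = w) :
    n * a * n⁻¹ = a ∨ n * a * n⁻¹ = a * w := by
  exact (q2a_sd h bD BG kG hq).tbn nG nB nQ nw

end CfsgLib.Der
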