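import Cfsg.Agent.Lib.Cop.Cf2
import Cfsg.Agent.Lib.Der.Tr

/-! The field with two elements: the case that `B` is invariant. -/

set_option autoImplicit false
set_option linter.unusedSectionVars false

namespace CfsgLib.Der

open Subgroup Cfsg CfsgLib.LAE CfsgLib.Push CfsgLib.Blocks CfsgLib.ZJ CfsgLib.OFP CfsgLib.Cop
open scoped commutatorElement

universe u

variable {X : Type*} [Group X] [Finite X] {L B Q : Subgroup X} {a w k b σ : X}

theorem q2b_u (h : Sm B Q a w k b) {u : X} (hu : u ∈ WW a w) :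
    Commute b u ∨ b * u * b⁻¹ = u * w :=
  (h.bk_W h.bB hu).imp_left fun e => mul_inv_eq_iff_eq_mul.1 e

theorem q2b_one (h : Sm B Q a w k b) (hL : L ≤ 𝒩[B])
    (tb : ∀ n ∈ L, n ∈ 𝒩[Q] → n * w * n⁻¹ = w → n * a * n⁻¹ = a ∨ n * a * n⁻¹ = a * w) {g : X}
    (hg : g ∈ L) (gw : g * w * g⁻¹ = w) (hQ : g * a * g⁻¹ ∈ Q) :
    g * a * g⁻¹ = a ∨ g * a * g⁻¹ = a * w := by
  refine tb g hg ((inv_mem_iff (H := 𝒩[Q])).1 (mem_normalizer_fintype fun x hx => ?_)) gw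
  rw [inv_inv]
  refine h.mem_Q (conj_inv_mem_of_mem_normalizer (hL hg) (h.QB hx)) ?_
  have e : Commute x (g * a * g⁻¹) := by
    rcases cf2_key h (hL hg) (h.QB hx) (left_mem_WW a w) with e | e
    · exact mul_inv_eq_iff_eq_mul.1 e
    · refine commutatorElement_eq_one_iff_commute.1 (h.toBlk.comm_eq_one hx hQ ?_)
      rw [commutatorElement_def, e, gw, mem_centralizer_iff.1 h.wc _ hQ, mul_inv_cancel_right]
      exact right_mem_WW a w
  have := e.conj g⁻¹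
  rwa [show g⁻¹ * (g * a * g⁻¹) * g⁻¹⁻¹ = a by group, inv_inv] at this

theorem q2b_two (h : Sm B Q a w k b) (bD : ∀ d ∈ Q, Commute k d → Commute b d) (bb : b * b = 1)
    {x : X} (hx : x ∈ B) (hQ : x ∉ Q) (xx : x * x = 1) : Commute b x := by
  obtain ⟨q, hq, rfl⟩ := h.bk_dec hx hQ
  obtain ⟨u, hu, d, hd, kd, rfl⟩ := h.toBlk.split hq
  rcases q2b_u h hu with e | e
  · exact (e.mul_right (bD d hd kd)).mul_right (Commute.refl b)
  have ud : d * u = u * d := mem_centralizer_iff.1 (h.toBlk.Wc hu) d hd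
  have uu : u * u = 1 := by
    rcases h.toBlk.mem.1 hu with e | e | e | e <;> rw [e]
    exacts [mul_one 1, h.aa, h.ww, by rw [h.toBlk.comm.symm.mul_mul_mul_comm, h.aa, h.ww, mul_one]]
  have e1 : w = d⁻¹ * d⁻¹ := by
    calc w = d⁻¹ * (u * u) * d * w * d * (b * b) * d⁻¹ := by rw [uu, bb]; group
      _ = d⁻¹ * (u * (u * d) * w * (b * d * b⁻¹) * (b * b)) * d⁻¹ := by
        rw [(bD d hd kd).eq]; group
      _ = d⁻¹ * (u * (d * u) * w * (b * d * b⁻¹) * (b * b)) * d⁻¹ := by rw [ud]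
      _ = d⁻¹ * (u * d * (u * w) * (b * d * b⁻¹) * (b * b)) * d⁻¹ := by group
      _ = d⁻¹ * (u * d * b * (u * d * b)) * d⁻¹ := by rw [← e]; group
      _ = _ := by rw [xx, mul_one]
  exact absurd (h.toBlk.eq_one (right_mem_WW a w) (e1 ▸ kd.inv_right.mul_right kd.inv_right)) h.w1

theorem q2b_four (h : Sm B Q a w k b) (bD : ∀ d ∈ Q, Commute k d → Commute b d) {g : X}
    (hg : g ∈ 𝒩[B]) (gw : g * w * g⁻¹ ≠ w) : Commute (g * a * g⁻¹) (a * b) := by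
  have hQ : g * a * g⁻¹ ∈ Q := by
    by_contra hx
    exact gw (cf2_tw h hg (left_mem_WW a w) hx)
  refine Commute.mul_right (mem_centralizer_iff.1 h.ac _ hQ) ?_
  obtain ⟨u, hu, d, hd, kd, e⟩ := h.toBlk.split hQ
  have hb := cf2_key h hg h.bB (left_mem_WW a w)
  rw [e] at hb ⊢
  rcases q2b_u h hu with c | c
  · exact (c.mul_right (bD d hd kd)).symm
  have e4 : b * (u * d) * b⁻¹ = u * d * w := by
    calc b * (u * d) * b⁻¹ = b * u * b⁻¹ * (b * d * b⁻¹) := by group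
      _ = u * w * d := by rw [c, (bD d hd kd).eq, mul_inv_cancel_right]
      _ = _ := by rw [mul_assoc, ← mem_centralizer_iff.1 h.wc d hd, mul_assoc]
  rw [e4] at hb
  rcases hb with e5 | e5
  · exact absurd (mul_eq_left.1 e5) h.w1
  · exact absurd (mul_left_cancel e5).symm gw

/-- PROOF: b = σ a σ⁻¹ is an involution, D = C_Q(k), every x ∈ Q is u d (`Blk.split`), w ∉ D (`Blk.eq_one`), B
normalizes D (`Sm.conj_D`), `cf2_key`: ⁅y, g a g⁻¹⁆ ∈ {1, g w g⁻¹} for y ∈ B, g ∈ L.  c = a b, c c = w, a c a⁻¹ = c⁻¹ = c w.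
(1) g ∈ L, g w g⁻¹ = w, a' = g a g⁻¹ ∈ Q ⇒ a' ∈ {a, a w}: a' = u d; for x ∈ Q, ⁅x, a'⁆ = ⁅x, d⁆ ∈ D ∩ {1, w} = 1, so
g⁻¹ x g ∈ B commutes with a, lies in Q (`Sm.mem_Q`): g⁻¹ ∈ N(Q); `tb`.
(2) g w g⁻¹ = w, a' ∉ Q ⇒ a' ∈ {b, b w}: a' = u d b (`idx`, b b = 1), a' a' = 1; u ∈ {a, a w} would give d d = w⁻¹ ∈ D;
so u ∈ {1, w}, a' commutes with b, σ⁻¹ a' σ commutes with a, lies in Q; (1) for σ⁻¹ g.
(3) so for g ∈ L fixing w both g a g⁻¹ and g b g⁻¹ = (gσ) a (gσ)⁻¹ lie in {a, aw, b, bw} and do not commute: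
g c g⁻¹ ∈ {c, c⁻¹}, g ∈ N⟨c⟩ (`end1_norm_zpowers`).
(4) g ∈ L, w' = g w g⁻¹ ≠ w: a' ∈ Q (`cf2_tw`), a' = u d, u ∈ {a, aw} gives b a' b⁻¹ = a' w against `cf2_key`; so
u ∈ {1, w}; a' ∈ Q commutes with a and with b, so with c.
(5) `trc` with Y = L, b := a, x := c (apply (3),(4) to g⁻¹): a commutes with c, so c = c⁻¹ = c w, w = 1. -/
theorem q2_inv (h : Sm B Q a w k b) (bD : ∀ d ∈ Q, Commute k d → Commute b d) (hL : L ≤ 𝒩[B])
    (σL : σ ∈ L) (σa : σ * a * σ⁻¹ = b) (σw : σ * w * σ⁻¹ = w) (aL : a ∈ ⁅L, L⁆)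
    (tb : ∀ n ∈ L, n ∈ 𝒩[Q] → n * w * n⁻¹ = w → n * a * n⁻¹ = a ∨ n * a * n⁻¹ = a * w) : False := by
  have bb : b * b = 1 := by rw [← σa, conj_mul, h.aa, mul_one, mul_inv_cancel]
  have nc : ¬ Commute a b := fun c => h.w1 (mul_eq_left.1 (by
    rw [← h.ba, ← c.eq, mul_inv_cancel_right]))
  have ci : b * a = (a * b)⁻¹ := by
    rw [mul_inv_rev, inv_eq_of_mul_eq_one_right h.aa, inv_eq_of_mul_eq_one_right bb]
  have cc : a * b * (a * b) = w := by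
    calc _ = a * (b * a * b⁻¹) * (b * b) := by group
      _ = w := by rw [h.ba, bb, mul_one, ← mul_assoc, h.aa, one_mul]
  have hz : ∀ z, z = 1 ∨ z = w → Commute a z ∧ Commute b z ∧ Commute w z ∧ z ∈ zpowers (a * b) := by
    rintro z (rfl | rfl)
    · exact ⟨.one_right _, .one_right _, .one_right _, one_mem _⟩
    · exact ⟨h.toBlk.comm, h.bw, .refl _, cc ▸ mul_mem (mem_zpowers _) (mem_zpowers _)⟩
  have s2 : ∀ g ∈ L, g * w * g⁻¹ = w →
      ∃ z, (z = 1 ∨ z = w) ∧ (g * a * g⁻¹ = a * z ∨ g * a * g⁻¹ = b * z) := fun g hg gw => by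
    by_cases hQ : g * a * g⁻¹ ∈ Q
    · rcases q2b_one h hL tb hg gw hQ with e | e
      exacts [⟨1, .inl rfl, .inl (by rw [e, mul_one])⟩, ⟨w, .inr rfl, .inl e⟩]
    have hB := LAE.conj_mem_of_mem_normalizer (hL hg) (h.QB h.aQ)
    have c1 := (q2b_two h bD bb hB hQ (by rw [conj_mul, h.aa, mul_one, mul_inv_cancel])).conj σ⁻¹
    have g1 := mul_mem (inv_mem σL) hg
    rw [← σa, show σ⁻¹ * (σ * a * σ⁻¹) * σ⁻¹⁻¹ = a by group,
      show σ⁻¹ * (g * a * g⁻¹) * σ⁻¹⁻¹ = σ⁻¹ * g * a * (σ⁻¹ * g)⁻¹ by group] at c1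
    have e0 : g * a * g⁻¹ = σ * (σ⁻¹ * g * a * (σ⁻¹ * g)⁻¹) * σ⁻¹ := by group
    rcases q2b_one h hL tb g1 (by
      calc _ = σ⁻¹ * (g * w * g⁻¹) * σ := by group
        _ = σ⁻¹ * (σ * w * σ⁻¹) * σ := by rw [gw, σw]
        _ = w := by group)
      (h.mem_Q (LAE.conj_mem_of_mem_normalizer (hL g1) (h.QB h.aQ)) c1.symm) with e | e
    · exact ⟨1, .inl rfl, .inr (by rw [e0, e, σa, mul_one])⟩
    · exact ⟨w, .inr rfl, .inr (by rw [e0, e, ← conj_mul, σa, σw])⟩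
  have s3 : ∀ g ∈ L, g * w * g⁻¹ = w → g ∈ 𝒩[zpowers (a * b)] := fun g hg gw => by
    obtain ⟨z, z0, e⟩ := s2 g hg gw
    obtain ⟨y, y0, e'⟩ := s2 (g * σ) (mul_mem hg σL) (by
      calc _ = g * (σ * w * σ⁻¹) * g⁻¹ := by group
        _ = w := by rw [σw, gw])
    rw [show g * σ * a * (g * σ)⁻¹ = g * (σ * a * σ⁻¹) * g⁻¹ by group, σa] at e'
    have n1 : ¬ Commute (g * a * g⁻¹) (g * b * g⁻¹) := fun c => nc (by
      have := c.conj g⁻¹
      rwa [show g⁻¹ * (g * a * g⁻¹) * g⁻¹⁻¹ = a by group,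
        show g⁻¹ * (g * b * g⁻¹) * g⁻¹⁻¹ = b by group] at this)
    obtain ⟨z1, z2, z3, z4⟩ := hz z z0
    obtain ⟨y1, y2, y3, y4⟩ := hz y y0
    have zy : Commute z y := by
      rcases z0 with rfl | rfl
      exacts [.one_left _, y3]
    refine end1_norm_zpowers ?_
    rw [← conj_mul]
    rcases e with e | e <;> rcases e' with e' | e' <;> rw [e, e'] at n1 ⊢
    · exact absurd (((Commute.refl a).mul_right y1).mul_left (z1.symm.mul_right zy)) n1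
    · rw [z2.symm.mul_mul_mul_comm]
      exact mul_mem (mem_zpowers _) (mul_mem z4 y4)
    · rw [z1.symm.mul_mul_mul_comm, ci]
      exact mul_mem (inv_mem (mem_zpowers _)) (mul_mem z4 y4)
    · exact absurd (((Commute.refl b).mul_right y2).mul_left (z2.symm.mul_right zy)) n1
  have s5 := trc (Y := L) (x := a * b) aL (end1_norm_zpowers (by
    rw [← mul_assoc, h.aa, one_mul, inv_eq_of_mul_eq_one_right h.aa, ci]
    exact inv_mem (mem_zpowers _))) fun g hg hn => by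
      have := q2b_four h bD (hL (inv_mem hg)) fun e => hn
        ((inv_mem_iff (H := 𝒩[zpowers (a * b)])).1 (s3 _ (inv_mem hg) e))
      rwa [inv_inv] at this
  exact nc (mul_left_cancel (a := a) (by rw [s5.eq, mul_assoc]))

end CfsgLib.Der
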