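import Cfsg.Agent.Lib.OFP.EndN
import Cfsg.Agent.Lib.Der.Tr

/-! The field with two elements: the final configuration. -/

set_option autoImplicit false
set_option linter.unusedSectionVars false

namespace CfsgLib.Der

open Subgroup Cfsg CfsgLib.LAE CfsgLib.Push CfsgLib.Blocks CfsgLib.ZJ CfsgLib.OFP CfsgLib.Cop
open scoped commutatorElement

universe u

variable {X : Type*} [Group X] [Finite X] {L S D : Subgroup X} {a w b c t x g : X}

/-- The elements of `L` fixing `w` normalize `⟨x⟩`. -/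
theorem tw_norm (h : Tw S D a w c x) (LN : L ≤ 𝒩[S]) (SL : S ≤ L)
    (nq : ∀ y ∈ L, y * w * y⁻¹ = w → y ∈ 𝒩[S ⊓ 𝒞[WW a w]] →
      y * a * y⁻¹ = a ∨ y * a * y⁻¹ = a * w) (hg : g ∈ L) (hw : g * w * g⁻¹ = w) :
    g ∈ 𝒩[zpowers x] := by
  by_cases hn : g ∈ h.big
  · obtain ⟨s, hs, sw, u, ⟨u1, u2, u3⟩, rfl⟩ := hn
    have uL : u ∈ L := (mul_mem_cancel_left (SL hs)).1 hg
    have h' := h.conj' u1 u2
    refine mul_mem (h.nx s hs sw) (end1_norm_zpowers ?_)
    have uQ : u ∈ 𝒩[S ⊓ 𝒞[WW a w]] := by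
      refine inv_mem_iff.1 (mem_normalizer_of_conjS_le (conjS_le_iff_forall.2 fun y hy => ?_))
      obtain ⟨y1, y2⟩ := mem_cent_WW.1 hy.2
      refine ⟨end1_conj_mem (inv_mem u1) hy.1, mem_cent_WW.2 ⟨?_, ?_⟩⟩
      · simpa using endN_comm' (h.trans h' hy.1 y2.symm u3 y1)
      · simpa using endN_comm' (g := u) (u := w) (by rw [u2]; exact y2)
    obtain ⟨σ, σS, σw, e⟩ := h'.ex
    have k := h.ya σ σS σw
    have xw := h'.xw
    generalize u * x * u⁻¹ = x' at e xw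
    rcases nq u uL u2 uQ with e1 | e1 <;> rw [e1] at e
    · rwa [e, inv_mul_cancel_left] at k
    · have e2 : σ * a * σ⁻¹ = a * x' := by
        refine mul_right_cancel (b := w) ?_
        calc _ = σ * a * (w * σ⁻¹) := by rw [← σw.inv_left.eq, mul_assoc]
          _ = σ * (a * w) * σ⁻¹ := by group
          _ = _ := by rw [e, mul_assoc, ← xw.eq, mul_assoc]
      rwa [e2, inv_mul_cancel_left] at k
  · obtain ⟨i, e⟩ := h.odd_of_not (LN hg) hw hn
    have h' := h.conj' (LN hg) hw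
    have h1 : x ^ (2 * i + 1) ∈ zpowers (g * x * g⁻¹) := by
      have := inv_mem (h'.ya a h.aS h.aw)
      have ia' := h'.ia
      generalize g * a * g⁻¹ = v at e this ia'
      convert this using 1
      rw [← inv_mul_eq_iff_eq_mul] at e
      rw [← e]
      simp only [mul_inv_rev, h.ia, ia', mul_assoc]
    obtain ⟨m, hm⟩ := end1_odd_inv (two_of_mem h.pS h.xS) (k := 2 * i + 1) ⟨i, rfl⟩
    have h2 : x ∈ zpowers (g * x * g⁻¹) := by
      have := zpow_mem h1 m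
      rwa [← zpow_mul, hm] at this
    refine inv_mem_iff.1 (end1_norm_zpowers ?_)
    have := endN_zp h2 g⁻¹
    rwa [show g⁻¹ * (g * x * g⁻¹) * g⁻¹⁻¹ = x by group] at this

/-- The elements moving `w` move `a` into the centralizer of `x`. -/
theorem tw_comm (h : Tw S D a w c x) (ha : ∀ g ∈ 𝒩[S], Commute a (g * w * g⁻¹)) (hg : g ∈ 𝒩[S])
    (hw : g * w * g⁻¹ ≠ w) : Commute (g * a * g⁻¹) x := by
  have h' := h.conj hg
  have k1 : Commute (g * a * g⁻¹) w := by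
    have := endN_comm g (ha _ (inv_mem hg))
    rwa [show g * (g⁻¹ * w * g⁻¹⁻¹) * g⁻¹ = w by group] at this
  have k2 : Commute x (g * w * g⁻¹) := by
    obtain ⟨σ, σS, -, e⟩ := h.ex
    have := endN_comm σ (ha _ (mul_mem (inv_mem (le_normalizer σS)) hg))
    rw [e, show σ * (σ⁻¹ * g * w * (σ⁻¹ * g)⁻¹) * σ⁻¹ = g * w * g⁻¹ by group] at this
    simpa using (ha g hg).inv_left.mul_left this
  have k3 := h'.ya x h.xS k2
  have k4 : (g * a * g⁻¹)⁻¹ * (x * (g * a * g⁻¹) * x⁻¹) ∈ zpowers x := by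
    have := mul_mem (end1_conj_mem' (h.nx _ h'.aS k1) (mem_zpowers x)) (inv_mem (mem_zpowers x))
    convert this using 1
    group
  have k5 := h.eq_one k4 k3 fun e => (end1_inv_unique e h'.wx h.ww h'.ww h'.w1).elim h.w1 fun e => hw e.symm
  rw [inv_mul_eq_one, eq_mul_inv_iff_mul_eq] at k5
  exact k5

theorem ed_false (h : Ed S D a b w t) (LN : L ≤ 𝒩[S]) (SL : S ≤ L) (aL : a ∈ ⁅L, L⁆)
    (nq : ∀ y ∈ L, y * w * y⁻¹ = w → y ∈ 𝒩[S ⊓ 𝒞[WW a w]] →
      y * a * y⁻¹ = a ∨ y * a * y⁻¹ = a * w) : False := by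
  obtain ⟨x, hx⟩ := h.exists_tw
  have k := trc aL (hx.nx a hx.aS hx.aw) fun g hg hn => by
    simpa using tw_comm hx h.conj_comm.2 (inv_mem (LN hg))
      fun e => hn (inv_mem_iff.1 (tw_norm hx LN SL nq (inv_mem hg) e))
  obtain ⟨m, hm⟩ := mem_zpowers_iff.1 hx.cx
  have := hx.ac
  rw [← hm, (k.zpow_right m).eq, mul_inv_cancel_right, hm] at this
  exact hx.ne_inv this

end CfsgLib.Der
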