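import Cfsg.Agent.Lib.Der.Q2a
import Cfsg.Agent.Lib.Der.Q2b
import Cfsg.Agent.Lib.Der.Q2c

/-! The field with two elements does not occur. -/

set_option autoImplicit false
set_option linter.unusedSectionVars false

namespace CfsgLib.Der

open Subgroup Cfsg CfsgLib.LAE CfsgLib.Push CfsgLib.Blocks CfsgLib.ZJ CfsgLib.OFP CfsgLib.Cop
open scoped commutatorElement

universe u

variable {X : Type*} [Group X] [Finite X] {G L S B Q : Subgroup X} {a w k b σ : X}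

/-- No element of `N_S(B)` moves `W` out of `Q`. -/
theorem q2_syl (hS : IsSylowIn 2 S G) (SL : S ≤ L) (LN : L ≤ 𝒩[S]) (LG : L ≤ 𝒩[G]) (SD : S ≤ ⁅L, L⁆)
    (h : Sm B Q a w k b) (BS : B ≤ S) (kG : k ∈ G)
    (hm : ∀ (U T : Subgroup X) (k' : X), Q ≤ U → U ≤ S → k' ∈ G → k' ∈ 𝒩[U] → k'⁻¹ * k ∈ 𝒞[Q] → IsPGroup 2 T →
      T ≤ G → B ≤ T → T ≤ 𝒩[U] → bau 2 T = B)
    (σS : σ ∈ S) (hσ : σ ∈ 𝒩[B]) (hC : ¬ conjS σ (WW a w) ≤ Q) : False := by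
  obtain ⟨h1, h2, h3, h4⟩ := cf2_swap h hσ hC
  have h' := h.change h2 h3
  have BG : B ≤ G := BS.trans hS.le
  have QG : Q ≤ G := h.QB.trans BG
  have hf := G.subtype_injective
  have eS : (S.subgroupOf G).map G.subtype = S := map_subgroupOf_eq_of_le hS.le
  have eB : (B.subgroupOf G).map G.subtype = B := map_subgroupOf_eq_of_le BG
  have eQ : (Q.subgroupOf G).map G.subtype = Q := map_subgroupOf_eq_of_le QG
  have ho : Odd (Nat.card G.subtype.ker) := by rw [ker_subtype, card_bot]; exact odd_one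
  have c : CfA (S.subgroupOf G) (B.subgroupOf G) (Q.subgroupOf G) ⟨a, QG h.aQ⟩ ⟨w, QG h.wQ⟩ ⟨k, kG⟩
      ⟨σ * a * σ⁻¹, BG h2⟩ ⟨σ, hS.le σS⟩ := by
    refine ⟨cf2_sm hf (by rw [eB, eQ]; exact h'), subgroupOf_self G ▸ hS.subgroupOf le_rfl, comap_mono BS, ?_,
      fun d hd hc => cf2_comm hf (h4 _ hd (hc.map G.subtype)), σS, cf2_norm hf (by rw [eB]; exact hσ),
      Subtype.ext h1, rfl⟩
    intro U T k' u1 u2 u3 u4 pT t1 t2
    refine map_injective hf ?_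
    rw [sec_bau ho pT, eB]
    refine hm (U.map G.subtype) _ k' (eQ ▸ map_mono u1) (eS ▸ map_mono u2) k'.2
      (le_normalizer_map G.subtype (mem_map_of_mem _ u3)) ?_ (pT.map _) (map_subtype_le T) (eB ▸ map_mono t1)
      ((map_mono t2).trans (le_normalizer_map G.subtype))
    have := cf2_cent' (f := G.subtype) u4
    rwa [eQ] at this
  obtain ⟨D, hD⟩ := c.exists_ed
  have := cf2_ed hf hD
  rw [eS] at this
  refine ed_false this LN SL (SD (BS (h.QB h.aQ))) fun y hy yw hn => ?_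
  change y ∈ 𝒩[S ⊓ 𝒞[WW a w]] at hn
  obtain ⟨k', hk1, hk, -⟩ := c.q1
  have eW : (WW (⟨a, QG h.aQ⟩ : G) ⟨w, QG h.wQ⟩).map G.subtype = WW a w := cf2_WW _ _
  have e1 : (S.subgroupOf G ⊓ 𝒞[WW (⟨a, QG h.aQ⟩ : G) ⟨w, QG h.wQ⟩]).map G.subtype = S ⊓ 𝒞[WW a w] := by
    refine le_antisymm ?_ fun x hx => ⟨⟨x, hS.le hx.1⟩, ⟨hx.1, cf2_cent hf (by rw [eW]; exact hx.2)⟩, rfl⟩
    rintro _ ⟨x, hx, rfl⟩
    exact ⟨hx.1, eW ▸ cf2_cent' hx.2⟩
  have kN := le_normalizer_map G.subtype (mem_map_of_mem _ hk1.kN)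
  rw [e1] at kN
  have QQ : Q ≤ S ⊓ 𝒞[WW a w] := le_inf (h.QB.trans BS) (le_centralizer_iff.1 h.toBlk.Wc)
  have e := hm _ (S ⊓ 𝒩[S ⊓ 𝒞[WW a w]]) k' QQ inf_le_left k'.2 kN
    (cent_of_act fun x hx => congrArg Subtype.val (hk ⟨x, QG hx⟩ hx)) hS.isPGroup.to_inf_left
    (inf_le_left.trans hS.le)
    (le_inf BS (le_normalizer_inf (BS.trans le_normalizer) (le_normalizer_centralizer h.BW))) inf_le_right
  have yB : y ∈ 𝒩[B] := by
    rw [← e]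
    exact normalizer_le_normalizer_bau _ (le_normalizer_inf (inf_le_left.trans LN)
      (inf_le_right.trans le_normalizer) (show y ∈ L ⊓ 𝒩[S ⊓ 𝒞[WW a w]] from ⟨hy, hn⟩))
  refine tbX h' h4 BG kG (fun T => hm Q T k le_rfl (h.QB.trans BS) kG h.kN
    (by rw [inv_mul_cancel]; exact one_mem _)) (LG hy) yB ?_ yw
  exact mem_normalizer_of_conjS_le (conjS_le_iff_forall.2 fun x hx =>
    h.mem_Q (LAE.conj_mem_of_mem_normalizer yB (h.QB hx))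
      (mem_cent_WW.1 (LAE.conj_mem_of_mem_normalizer hn (QQ hx)).2).1.symm)

/-- The configuration over the field with two elements does not occur. -/
theorem q2_false (hS : IsSylowIn 2 S G) (SL : S ≤ L) (LN : L ≤ 𝒩[S]) (LG : L ≤ 𝒩[G]) (SD : S ≤ ⁅L, L⁆)
    (h : Sm B Q a w k b) (BS : B ≤ S) (kG : k ∈ G)
    (hm : ∀ (U T : Subgroup X) (k' : X), Q ≤ U → U ≤ S → k' ∈ G → k' ∈ 𝒩[U] → k'⁻¹ * k ∈ 𝒞[Q] → IsPGroup 2 T →
      T ≤ G → B ≤ T → T ≤ 𝒩[U] → bau 2 T = B)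
    (hc : ∀ C T : Subgroup X, WW a w ≤ C → C ≤ Q → B ⊓ 𝒞[C] ≤ C → T ≤ S → B ≤ T → T ≤ 𝒩[C] → bau 2 T = B)
    (hinv : ∀ C : Subgroup X, WW a w ≤ C → C ≤ Q → B ⊓ 𝒞[C] ≤ C → ¬ L ≤ 𝒩[C]) : False := by
  by_cases h1 : ∀ σ ∈ S ⊓ 𝒩[B], conjS σ (WW a w) ≤ Q
  swap
  · push Not at h1
    obtain ⟨σ, hσ, hC⟩ := h1
    exact q2_syl hS SL LN LG SD h BS kG hm hσ.1 hσ.2 hC
  obtain ⟨C, c1, c2, c3, c4⟩ := cf2_core h inf_le_right h1
  have e := hc C _ c1 c2 c3 inf_le_left (le_inf BS le_normalizer) c4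
  have hSB : S ≤ S ⊓ 𝒩[B] := by
    by_contra hn
    obtain ⟨y, y1, y2, y3, -⟩ := end1_exists_norm hS.isPGroup inf_le_left hn
    have := normalizer_le_normalizer_bau (p := 2) _ y2
    rw [e] at this
    exact y3 ⟨y1, this⟩
  rw [le_antisymm inf_le_left hSB] at e
  have hL : L ≤ 𝒩[B] := by
    rw [← e]
    exact LN.trans (normalizer_le_normalizer_bau S)
  by_cases h2 : ∀ σ ∈ L, conjS σ (WW a w) ≤ Q
  · obtain ⟨C', c1', c2', c3', c4'⟩ := cf2_core h hL h2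
    exact absurd c4' (hinv C' c1' c2' c3')
  · push Not at h2
    obtain ⟨σ, hσ, hC⟩ := h2
    obtain ⟨t1, t2, t3, t4⟩ := cf2_swap h (hL hσ) hC
    exact q2_inv (h.change t2 t3) t4 hL hσ rfl t1 (SD (BS (h.QB h.aQ))) fun n hn nQ nw =>
      tbX (h.change t2 t3) t4 (BS.trans hS.le) kG (fun T => hm Q T k le_rfl (h.QB.trans BS) kG h.kN
        (by rw [inv_mul_cancel]; exact one_mem _)) (LG hn) (hL hn) nQ nw

end CfsgLib.Der
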