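import Cfsg.Agent.Lib.OFP.T2Main
import Cfsg.Agent.Lib.Der.Q2d

/-! Control of the `2`-local subgroups by `M`. -/

set_option autoImplicit false
set_option linter.unusedSectionVars false

namespace CfsgLib.Der

open Subgroup Cfsg CfsgLib.LAE CfsgLib.Push CfsgLib.Blocks CfsgLib.ZJ CfsgLib.OFP
open scoped commutatorElement

variable {Γ : Type*} [Group Γ] [Finite Γ]

theorem step2 {A G S M : Subgroup Γ} (hS : IsSylowIn 2 S G) (SM : S ≤ M) (MG : M ≤ G) (AS : A ≤ 𝒩[S])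
    (AG : A ≤ 𝒩[G]) (SA : S ≤ A) (SD : S ≤ ⁅A, A⁆)
    (inv : ∀ C ≤ S, C ≠ ⊥ → S ≤ 𝒩[C] → A ≤ 𝒩[C] → G ⊓ 𝒩[C] ≤ CM M C)
    (cz : ∀ R ≤ S, G ⊓ 𝒞[omegaZ 2 S] ⊓ 𝒩[R] ≤ CM M R)
    (big : ∀ (F : Type) [Field F] [Fintype F] [CharP F 2] (B Q P V V₀ : Subgroup Γ),
      Lf F G M S B Q P V V₀ → 2 < Fintype.card F → Cop.BigE B G (omegaZ 2 S) → False) :
    ∀ U ≤ S, G ⊓ 𝒩[U] ≤ CM M U := by
  intro U₀ US
  by_contra hbad
  have hf := G.subtype_injective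
  have ho : Odd (Nat.card G.subtype.ker) := by rw [ker_subtype]; simp
  have pS := hS.isPGroup
  have SG := hS.le
  obtain ⟨S, rfl⟩ : ∃ S' : Subgroup G, S'.map G.subtype = S := ⟨_, map_subgroupOf_eq_of_le SG⟩
  obtain ⟨M, rfl⟩ : ∃ M' : Subgroup G, M'.map G.subtype = M := ⟨_, map_subgroupOf_eq_of_le MG⟩
  have sub : ∀ C ≤ G, ∃ C' : Subgroup G, C'.map G.subtype = C := fun C h => ⟨_, map_subgroupOf_eq_of_le h⟩
  have ml : ∀ {C D : Subgroup G}, C.map G.subtype ≤ D.map G.subtype ↔ C ≤ D :=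
    map_le_map_iff_of_injective hf
  obtain ⟨U₀, rfl⟩ := sub U₀ (US.trans SG)
  have hS' : IsSylowIn 2 S ⊤ := by
    have := hS.subgroupOf le_rfl
    rwa [subgroupOf_self, subgroupOf, comap_map_eq_self_of_injective hf] at this
  have SM' : S ≤ M := ml.1 SM
  have g : Gl2 S M {C | A ≤ 𝒩[C.map G.subtype]} := by
    refine ⟨hS', SM', fun C h1 h2 h3 => ?_, fun C h1 h2 => ?_, fun R hR x hx => ?_⟩
    · by_cases e : C = ⊥
      · rw [e]; exact gd_bot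
      exact gd_map_iff.2 (inv _ (map_mono h1) (fun e' => e ((map_eq_bot_iff_of_injective C hf).1 e'))
        (map_le_normalizer_map _ h2) h3)
    · have h3 := lg3_char hf h2
      have h4 : C.map G.subtype ≤ (bau 2 S).map G.subtype := map_mono h1
      have h5 := normalizer_le_of_characteristic ((C.map G.subtype).subgroupOf ((bau 2 S).map G.subtype))
      rw [map_subgroupOf_eq_of_le h4, sec_bau ho hS'.isPGroup] at h5
      exact AS.trans ((normalizer_le_normalizer_bau _).trans h5)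
    · refine (mem_CM_map_iff hf).1 (cz _ (map_mono hR) ⟨⟨x.2, ?_⟩, (bas1_norm_map hf).2 hx.2⟩)
      rw [← map_omegaZ hf]
      exact (bas1_cent_map hf).2 hx.1
  obtain ⟨U, T, m⟩ := exists_mx2 g
    ⟨U₀, hS'.isPGroup.to_le (ml.1 US), (ml.1 US).trans SM', fun h => hbad (gd_map_iff.1 h)⟩
  obtain ⟨F, _, _, _, Q, P, V, V₀, l⟩ := m.exists_lf g
  have l' := l.map_subtype
  rcases (show 2 ≤ Fintype.card F from Fintype.one_lt_card).eq_or_lt with hq | hq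
  swap
  · exact big F _ _ _ _ _ l' hq (Cop.lf_bigE l' hq)
  obtain ⟨a, w, k, b, s, kP, hP⟩ := l.toNL.small hq.symm l.ZB l.nc
  have hk : k ∉ CM M Q := fun h => l.bad (hP.trans (sup_le
    (sup_le (le_CM (l.BS.trans SM') s.QN) (zpowers_le.2 h)) cent_le_CM))
  have s' := lg3_sm hf s
  have hk' : G.subtype k ∉ CM (M.map G.subtype) (Q.map G.subtype) := fun h => hk ((mem_CM_map_iff hf).1 h)
  have bad : ∀ C : Subgroup Γ, WW (G.subtype a) (G.subtype w) ≤ C → C ≤ Q.map G.subtype →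
      (bau 2 T).map G.subtype ⊓ 𝒞[C] ≤ C → (bau 2 T).map G.subtype ≤ 𝒩[C] →
      ¬ G ⊓ 𝒩[C] ≤ CM (M.map G.subtype) C := by
    intro C h1 h2 h3 h4 h
    obtain ⟨C, rfl⟩ := sub C (h2.trans (map_subtype_le _))
    rw [← Cop.cf2_WW] at h1
    exact m.bad_of SM' s hk (ml.1 h1) (ml.1 h2)
      (fun x hx => (mem_map_iff_mem hf).1 (h3 ⟨mem_map_of_mem _ hx.1, (bas1_cent_map hf).2 hx.2⟩))
      (fun x hx => (bas1_norm_map hf).1 (h4 (mem_map_of_mem _ hx))) (gd_map_iff.2 h)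
  have QS := s'.QB.trans l'.BS
  exact q2_false hS SA AS AG SD s' l'.BS k.2
    (fun R T' k' h1 h2 h3 h4 h5 h6 h7 h8 h9 => l'.hm R T' (pS.to_le h2) (h2.trans SM) (fun h => hk' (by
      have h10 : k' ∈ 𝒩[Q.map G.subtype] := by
        simpa using mul_mem s'.kN (inv_mem (centralizer_le_normalizer _ h5))
      simpa using mul_mem (mem_CM_of_le h1 h10 (h ⟨h3, h4⟩)) (cent_le_CM h5))) h6 h8 h7 h9)
    (fun C T' h1 h2 h3 h4 h5 h6 => l'.hm C T' (pS.to_le (h2.trans QS)) ((h2.trans QS).trans SM)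
      (bad C h1 h2 h3 (h5.trans h6)) (pS.to_le h4) h5 (h4.trans SG) h6)
    (fun C h1 h2 h3 h4 => bad C h1 h2 h3 (l'.BS.trans (SA.trans h4))
      (inv C (h2.trans QS) (fun e => s'.w1 (mem_bot.1 (e ▸ h1 (right_mem_WW _ _)))) (SA.trans h4) h4))

end CfsgLib.Der
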