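import Cfsg.Agent.Lib.Der.Key
import Cfsg.Agent.Lib.Cop.S1V

/-! The submodule `[V, F(M / C_M(V))]`. -/

set_option autoImplicit false
set_option linter.unusedSectionVars false

open Subgroup Cfsg CfsgLib.LAE CfsgLib.ZN CfsgLib.MinS CfsgLib.Cop Module
open scoped commutatorElement

universe u

namespace CfsgLib.Der

variable {X : Type u} [Group X] [Finite X] {A G S M V : Subgroup X}

/-- `V'` is a faithful invariant submodule of `V` without an invariant class. -/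
structure VM (A M V V' : Subgroup X) : Prop where
  le : V' ≤ V
  MV : M ≤ normalizer (V' : Set X)
  AV : A ≤ normalizer (V' : Set X)
  cen : ∀ m ∈ M, m ∈ centralizer (V' : Set X) → m ∈ centralizer (V : Set X)
  inv : ∀ t ∈ V', (∀ a ∈ A, ∃ g ∈ M, a * t * a⁻¹ = g * t * g⁻¹) → t = 1

/-- PROOF: averaging: σ = ∑_{f : F} f satisfies σ (g v - v) = 0 (reindex) and σ u = |F| • u = u on fxS F. -/
theorem cmS_inf_fxS {W : Type*} [AddCommGroup W] [Module (ZMod 2) W] [Finite W] {F : Subgroup (GLv W)}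
    (ho : Odd (Nat.card F)) : cmS ⊤ F ⊓ fxS F = ⊥ := by
  have := Fintype.ofFinite F
  have h1 : cmS ⊤ F ≤ LinearMap.ker (∑ f : F, ((f : GLv W) : W →ₗ[ZMod 2] W)) := cmS_le_iff.2 fun g hg w _ => by
    rw [LinearMap.mem_ker, map_sub, sub_eq_zero, LinearMap.sum_apply, LinearMap.sum_apply]
    exact Fintype.sum_equiv (Equiv.mulRight ⟨g, hg⟩) _ _ fun _ => rfl
  refine eq_bot_iff.2 fun u hu => ?_
  have h2 := h1 hu.1
  obtain ⟨k, hk⟩ := ho
  rw [LinearMap.mem_ker, LinearMap.sum_apply, Finset.sum_congr rfl fun f _ => mem_fxS.1 hu.2 f.1 f.2,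
    Finset.sum_const, Finset.card_univ, ← Nat.card_eq_fintype_card, hk, succ_nsmul, mul_nsmul, two_nsmul,
    add_self_v, nsmul_zero, zero_add] at h2
  exact h2

theorem vm_inv {W : Type*} [AddCommGroup W] [Module (ZMod 2) W] {F : Subgroup (GLv W)} {g : GLv W}
    (hg : g ∈ normalizer (F : Set (GLv W))) : Inv (cmS ⊤ F) g := fun _ hv =>
  (cmS_le_iff (U := (cmS ⊤ F).comap (g : W →ₗ[ZMod 2] W))).2 (fun f hf w _ => by
    have := cm_le_cmS ⊤ (conj_mem_of_mem_normalizer hg hf) (sub_mem_cm _ (Submodule.mem_top (x := g w)))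
    rw [gmul, gmul, ginv, ← map_sub] at this
    exact this) hv

/-- PROOF: s : Sec (M ⊔ A) V ⊥ W from `exists_sec` (as in `Sx.q2`), F from `M1.exists_fit'` (as in `Sx.sec_fit`),
V' = s.bak (cmS ⊤ F); N(F) ⊇ im M, im A leaves cmS ⊤ F invariant (`cm_top_conj`).  cen: μ = ρ m fixes cmS ⊤ F
pointwise.  For f ∈ F, c = ⁅μ, f⁆ ∈ F fixes cmS ⊤ F pointwise and cm ⊤ c ≤ cmS ⊤ F, so c = 1 (`eq_one_of_cm_le`, odd
order); so μ ∈ C(F) ⊓ im M ≤ F and the same argument gives μ = 1.  inv: `key` gives π t ∈ fxS F, `cmS_inf_fxS`. -/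
theorem exists_vm (sn : SN A G) (h : Sx A M V ⊥) (hM : M ≤ G) (hV : V ≤ G) (hs : Group.IsSolvable M) :
    ∃ V', VM A M V V' := by
  obtain ⟨W, _, _, _, ⟨s⟩⟩ := exists_sec h.supE h.supZ h.le h.nZ h.sq
  have h0 : Group.IsSolvable (s.im M) := by
    rw [← im_secRes s le_sup_left le_rfl]; exact Core.isSolvable_map _ _
  obtain ⟨F, h1, h3, h4, h5, h6⟩ := M1.exists_fit' h0 (h.red W s)
  have nM : ∀ m ∈ M, s.ρ m ∈ normalizer (F : Set (GLv W)) := fun m hm =>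
    h3 (le_normalizer (s.ρ_mem_im hm (mem_sup_left hm)))
  have nA : ∀ a ∈ A, s.ρ a ∈ normalizer (F : Set (GLv W)) := fun a ha =>
    h3 (s.im_le_normalizer h.AH (s.ρ_mem_im ha (mem_sup_right ha)))
  refine ⟨s.bak (cmS ⊤ F), s.bak_le _, fun m hm => s.mem_normalizer_bak (mem_sup_left hm) (vm_inv (nM m hm)),
    fun a ha => s.mem_normalizer_bak (mem_sup_right ha) (vm_inv (nA a ha)), fun m hm hc => ?_, fun t ht hi => ?_⟩
  · have z : ∀ c ∈ F, (∀ u ∈ cmS ⊤ F, c u = u) → c = 1 := fun c hc k =>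
      eq_one_of_cm_le (M1.odd_orderOf_of_mem h4 hc) fun u hu => mem_fx.2 (k u (cm_le_cmS ⊤ hc hu))
    have f1 : ∀ u ∈ cmS ⊤ F, s.ρ m u = u := fun u hu => by
      obtain ⟨e, he, rfl⟩ := s.surj u
      exact (s.ρ_π_eq_iff (mem_sup_left hm) he).2
        (mem_bot.2 (commutatorElement_eq_one_iff_mul_comm.2 (hc e ⟨he, hu⟩).symm))
    refine (s.ρ_eq_one_iff_mem_centralizer rfl (mem_sup_left hm)).1
      (z _ (h6 ⟨s.ρ_mem_im hm (mem_sup_left hm), fun f hf => ?_⟩) f1)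
    refine (commutatorElement_eq_one_iff_mul_comm.1 (z ⁅s.ρ m, f⁆
      (F.mul_mem (conj_mem_of_mem_normalizer (nM m hm) hf) (F.inv_mem hf)) fun u hu => ?_)).symm
    have k := f1 _ (vm_inv (le_normalizer (F.inv_mem hf)) u hu)
    rw [commutatorElement_def, gmul, gmul, gmul, ← k, ginv, ginv', f1 u hu]
  · have k := key (w := s.π t) sn s hM hV h.AH h1 h4 h5 fun α hα => by
      obtain ⟨a, ha, hL, rfl⟩ := s.mem_im.1 hα
      obtain ⟨g, hg, e⟩ := hi a ha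
      refine ⟨s.ρ g, s.ρ_mem_im hg (mem_sup_left hg), Subgroup.mul_mem _ (Subgroup.inv_mem _ (nM g hg)) (nA a ha), ?_⟩
      rw [gmul, ← s.conj a hL t ht.1, e, s.conj g (mem_sup_left hg) t ht.1, ginv]
    exact mem_bot.1 ((s.π_eq_zero t ht.1).1 ((cmS_inf_fxS h4).le ⟨ht.2, k⟩))

/-- PROOF: copy `Cop.sx_vv` (Lib/Cop/S1V.lean) with M = G ⊓ N(vv G S) ≥ G ⊓ N(J(S)) (`le_normalizer_vv`),
S ≤ M by `normalizer_le_vv`. -/
theorem sx_M (hS : IsSylowIn 2 S G) (hG : A ≤ normalizer (G : Set X)) (hA : A ≤ normalizer (S : Set X)) :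
    Sx A (G ⊓ normalizer (vv G S : Set X)) (vv G S) ⊥ := by
  have hsq : ∀ e ∈ vv G S, e * e = 1 := fun e he => by
    rw [← sq]; exact (mem_omegaZ.1 (vv_le_zJ hS.isPGroup he)).2.2
  have hSL : S ≤ G ⊓ normalizer (vv G S : Set X) :=
    le_inf hS.le (normalizer_le_vv (hS.le.trans le_normalizer) le_normalizer)
  have hb : ∀ K : Subgroup X, K ≤ normalizer ((⊥ : Subgroup X) : Set X) := fun K => by
    rw [normalizer_eq_top]; exact le_top
  refine ⟨bot_le, hb _, fun e he => mem_bot.2 (hsq e he), inf_le_right, hb _, le_normalizer_inf hG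
    ((normalizer_le_vv hG hA).trans (normalizer_le_normalizer_normalizer _)), normalizer_le_vv hG hA, hb _,
    fun V _ _ _ s => ?_⟩
  rw [← im_secRes s le_sup_left le_rfl]
  set s' := secRes s (le_sup_left : G ⊓ normalizer (vv G S : Set X) ≤ _)
  refine s'.pCore_im_of_fixed (hS.mono hSL inf_le_left) (s'.π '' (omegaZ 2 S : Set X)) ?_ ?_
  · rintro _ ⟨z, hz, rfl⟩ t ht
    rw [← s'.conj t (hSL ht) z (omegaZ_le_vv G S hz), (mem_omegaZ.1 hz).2.1 t ht, mul_inv_cancel_right]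
  · rw [eq_top_iff]
    intro v _
    obtain ⟨a, ha, rfl⟩ := s'.surj v
    refine (s'.mem_bak.1 ((?_ : vv G S ≤ s'.bak _) ha)).2
    refine nclIn_le_iff.2 fun g hg => conjS_le_iff_forall.2 fun z hz => s'.mem_bak.2 ⟨?_, ?_⟩
    · exact conj_mem_of_mem_normalizer (le_normalizer_vv G S hg) (omegaZ_le_vv G S hz)
    · exact Submodule.subset_span ⟨g, ⟨hg.1, le_normalizer_vv G S hg⟩, _, ⟨z, hz, rfl⟩,
        (s'.conj g ⟨hg.1, le_normalizer_vv G S hg⟩ z (omegaZ_le_vv G S hz)).symm⟩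

end CfsgLib.Der
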